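import Mathlib
import Cfsg.Agent.Lib.Helper2.SLGen
import Cfsg.Agent.S0249
import Cfsg.Agent.Lib.Helper9.Components

set_option autoImplicit false
open Cfsg

namespace Cfsg.Agent.Lib.Helper9.BlockLast

open Matrix

section matrix

variable {F : Type*} [Field F] {m : ℕ}

/-- The block embedding `g ↦ diag(g, 1)`. -/
def emb (g : Matrix (Fin m) (Fin m) F) : Matrix (Fin (m + 1)) (Fin (m + 1)) F :=
  fun i j => Fin.lastCases (motive := fun _ => F)
    (Fin.lastCases (motive := fun _ => F) 1 (fun _ => 0) j)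
    (fun i' => Fin.lastCases (motive := fun _ => F) 0 (fun j' => g i' j') j) i

@[simp] theorem emb_last_last (g : Matrix (Fin m) (Fin m) F) :
    emb g (Fin.last m) (Fin.last m) = 1 := by simp [emb]

@[simp] theorem emb_last_castSucc (g : Matrix (Fin m) (Fin m) F) (j : Fin m) :
    emb g (Fin.last m) j.castSucc = 0 := by simp [emb]

@[simp] theorem emb_castSucc_last (g : Matrix (Fin m) (Fin m) F) (i : Fin m) :
    emb g i.castSucc (Fin.last m) = 0 := by simp [emb]

@[simp] theorem emb_castSucc_castSucc (g : Matrix (Fin m) (Fin m) F) (i j : Fin m) :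
    emb g i.castSucc j.castSucc = g i j := by simp [emb]

theorem emb_mul (g h : Matrix (Fin m) (Fin m) F) : emb (g * h) = emb g * emb h := by
  ext i j
  rw [Matrix.mul_apply, Fin.sum_univ_castSucc]
  refine Fin.lastCases ?_ (fun i' => ?_) i <;> refine Fin.lastCases ?_ (fun j' => ?_) j
  · simp
  · simp
  · simp
  · simp [Matrix.mul_apply]

theorem emb_one : emb (1 : Matrix (Fin m) (Fin m) F) = 1 := by
  ext i j
  refine Fin.lastCases ?_ (fun i' => ?_) i <;> refine Fin.lastCases ?_ (fun j' => ?_) j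
  · simp
  · simp [Matrix.one_apply, Fin.ext_iff, (j'.2).ne']
  · simp [Matrix.one_apply, Fin.ext_iff, (i'.2).ne]
  · simp [Matrix.one_apply, Fin.ext_iff]

theorem emb_injective : Function.Injective (emb : Matrix (Fin m) (Fin m) F → _) := by
  intro g h hgh
  ext i j
  have := congrFun (congrFun hgh i.castSucc) j.castSucc
  simpa using this

theorem det_emb (g : Matrix (Fin m) (Fin m) F) : (emb g).det = g.det := by
  rw [Matrix.det_succ_row (emb g) (Fin.last m), Fin.sum_univ_castSucc]
  have h1 : ∀ j : Fin m, (-1 : F) ^ ((Fin.last m : ℕ) + (j.castSucc : ℕ)) *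
      emb g (Fin.last m) j.castSucc *
      ((emb g).submatrix (Fin.last m).succAbove j.castSucc.succAbove).det = 0 := by
    intro j
    rw [emb_last_castSucc, mul_zero, zero_mul]
  rw [Finset.sum_eq_zero (fun j _ => h1 j), zero_add, emb_last_last, mul_one]
  have h2 : (emb g).submatrix (Fin.last m).succAbove (Fin.last m).succAbove = g := by
    ext i j
    simp [Fin.succAbove_last]
  rw [h2]
  have h3 : (-1 : F) ^ ((Fin.last m : ℕ) + (Fin.last m : ℕ)) = 1 :=
    Even.neg_one_pow ⟨_, rfl⟩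
  rw [h3, one_mul]

/-- Block diagonal shape with respect to the last coordinate. -/
def IsBlock (A : Matrix (Fin (m + 1)) (Fin (m + 1)) F) : Prop :=
  (∀ j : Fin m, A (Fin.last m) j.castSucc = 0) ∧ (∀ i : Fin m, A i.castSucc (Fin.last m) = 0)

theorem isBlock_emb (g : Matrix (Fin m) (Fin m) F) : IsBlock (emb g) :=
  ⟨fun j => emb_last_castSucc g j, fun i => emb_castSucc_last g i⟩

theorem last_mul {A : Matrix (Fin (m + 1)) (Fin (m + 1)) F} (hA : IsBlock A)
    (B : Matrix (Fin (m + 1)) (Fin (m + 1)) F) :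
    (A * B) (Fin.last m) (Fin.last m) = A (Fin.last m) (Fin.last m) * B (Fin.last m) (Fin.last m) := by
  rw [Matrix.mul_apply, Fin.sum_univ_castSucc]
  rw [Finset.sum_eq_zero (fun j _ => by rw [hA.1 j, zero_mul]), zero_add]

theorem eq_emb_of_isBlock {A : Matrix (Fin (m + 1)) (Fin (m + 1)) F} (hA : IsBlock A)
    (h1 : A (Fin.last m) (Fin.last m) = 1) : A = emb (A.submatrix Fin.castSucc Fin.castSucc) := by
  ext i j
  refine Fin.lastCases ?_ (fun i' => ?_) i <;> refine Fin.lastCases ?_ (fun j' => ?_) j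
  · simp [h1]
  · simp [hA.1 j']
  · simp [hA.2 i']
  · simp

/-- The diagonal of the involution `diag(-1, …, -1, 1)`. -/
def dvec (F : Type*) [Field F] (m : ℕ) : Fin (m + 1) → F :=
  fun i => if (i : ℕ) + 1 = m + 1 then (1 : F) else -1

/-- The involution `diag(-1, …, -1, 1)`. -/
def D (F : Type*) [Field F] (m : ℕ) : Matrix (Fin (m + 1)) (Fin (m + 1)) F :=
  Matrix.diagonal (dvec F m)

@[simp] theorem dvec_last : dvec F m (Fin.last m) = 1 := by simp [dvec]

@[simp] theorem dvec_castSucc (i : Fin m) : dvec F m i.castSucc = -1 := by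
  have : (i : ℕ) ≠ m := i.2.ne
  simp [dvec, this]

theorem D_mul_D : D F m * D F m = 1 := by
  unfold D
  rw [Matrix.diagonal_mul_diagonal, ← Matrix.diagonal_one]
  congr 1
  funext i
  refine Fin.lastCases ?_ (fun i' => ?_) i <;> simp

theorem isBlock_of_commute_D (h2 : (2 : F) ≠ 0) {A : Matrix (Fin (m + 1)) (Fin (m + 1)) F}
    (hA : A * D F m = D F m * A) : IsBlock A := by
  have key : ∀ x : F, x * (-1) = 1 * x → x = 0 := by
    intro x hx
    have h3 : 2 * x = 0 := by linear_combination -hx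
    rcases mul_eq_zero.mp h3 with h | h
    · exact absurd h h2
    · exact h
  have key' : ∀ x : F, x * 1 = (-1) * x → x = 0 := by
    intro x hx
    have h3 : 2 * x = 0 := by linear_combination hx
    rcases mul_eq_zero.mp h3 with h | h
    · exact absurd h h2
    · exact h
  constructor
  · intro j
    have h := congrFun (congrFun hA (Fin.last m)) j.castSucc
    unfold D at h
    rw [Matrix.mul_diagonal, Matrix.diagonal_mul, dvec_last, dvec_castSucc] at h
    exact key _ h
  · intro i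
    have h := congrFun (congrFun hA i.castSucc) (Fin.last m)
    unfold D at h
    rw [Matrix.mul_diagonal, Matrix.diagonal_mul, dvec_last, dvec_castSucc] at h
    exact key' _ h

theorem commute_D_of_isBlock {A : Matrix (Fin (m + 1)) (Fin (m + 1)) F} (hA : IsBlock A) :
    A * D F m = D F m * A := by
  ext i j
  unfold D
  rw [Matrix.mul_diagonal, Matrix.diagonal_mul]
  refine Fin.lastCases ?_ (fun i' => ?_) i <;> refine Fin.lastCases ?_ (fun j' => ?_) j
  · simp [mul_comm]
  · simp [hA.1 j']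
  · simp [hA.2 i']
  · simp [mul_comm]

theorem D_ne_one (h2 : (2 : F) ≠ 0) (hm : 1 ≤ m) : D F m ≠ 1 := by
  intro h
  have h1 := congrFun (congrFun h (Fin.castSucc ⟨0, hm⟩)) (Fin.castSucc ⟨0, hm⟩)
  unfold D at h1
  rw [Matrix.diagonal_apply_eq, dvec_castSucc, Matrix.one_apply_eq] at h1
  apply h2
  linear_combination -h1

theorem emb_transvection (i j : Fin m) (c : F) :
    emb (Matrix.transvection i j c) = 1 + Matrix.single i.castSucc j.castSucc c := by
  ext k l
  refine Fin.lastCases ?_ (fun k' => ?_) k <;> refine Fin.lastCases ?_ (fun l' => ?_) l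
  · simp [Matrix.single_apply, Fin.ext_iff, (i.2).ne]
  · simp [Matrix.single_apply, Matrix.one_apply, Fin.ext_iff, (i.2).ne, (l'.2).ne']
  · simp [Matrix.single_apply, Matrix.one_apply, Fin.ext_iff, (j.2).ne, (k'.2).ne]
  · simp [Matrix.transvection, Matrix.single_apply, Matrix.one_apply, Fin.ext_iff]

end matrix


section abstract

open scoped commutatorElement

variable {F : Type*} [Field F] {m : ℕ} {G : Type*} [Group G]

/-- A homomorphism into a commutative monoid does not see conjugation. -/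
theorem map_conj_comm {M : Type*} [CommMonoid M] (f : G →* M) (c x : G) :
    f (c * x * c⁻¹) = f x := by
  rw [map_mul, map_mul, mul_comm (f c), mul_assoc, ← map_mul, mul_inv_cancel, map_one, mul_one]

/-- A homomorphism into a commutative monoid kills commutators. -/
theorem map_commutator_comm {M : Type*} [CommMonoid M] (f : G →* M) (a b : G) :
    f ⁅a, b⁆ = 1 := by
  have h1 : f a * f a⁻¹ = 1 := by rw [← map_mul, mul_inv_cancel, map_one]
  have h2 : f b * f b⁻¹ = 1 := by rw [← map_mul, mul_inv_cancel, map_one]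
  rw [commutatorElement_def, map_mul, map_mul, map_mul, mul_assoc, mul_mul_mul_comm, h1, h2,
    one_mul]

theorem psi_injective (ρ : G →* Matrix (Fin (m + 1)) (Fin (m + 1)) F)
    (ψ : Matrix.SpecialLinearGroup (Fin m) F →* G)
    (hψ : ∀ g : Matrix.SpecialLinearGroup (Fin m) F, ρ (ψ g) = emb (g : Matrix (Fin m) (Fin m) F)) :
    Function.Injective ψ := by
  intro g h hgh
  have h1 : emb (g : Matrix (Fin m) (Fin m) F) = emb (h : Matrix (Fin m) (Fin m) F) := by
    rw [← hψ, ← hψ, hgh]
  exact Subtype.ext (emb_injective h1)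

theorem mem_range_iff (ρ : G →* Matrix (Fin (m + 1)) (Fin (m + 1)) F)
    (hρ : Function.Injective ρ) (ψ : Matrix.SpecialLinearGroup (Fin m) F →* G)
    (hψ : ∀ g : Matrix.SpecialLinearGroup (Fin m) F, ρ (ψ g) = emb (g : Matrix (Fin m) (Fin m) F))
    (x : G) : x ∈ ψ.range ↔
      IsBlock (ρ x) ∧ ρ x (Fin.last m) (Fin.last m) = 1 ∧ (ρ x).det = 1 := by
  constructor
  · rintro ⟨g, rfl⟩
    rw [hψ]
    exact ⟨isBlock_emb _, emb_last_last _, by rw [det_emb]; exact g.2⟩
  · rintro ⟨hb, h1, hd⟩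
    have he := eq_emb_of_isBlock hb h1
    have hd' : ((ρ x).submatrix Fin.castSucc Fin.castSucc).det = 1 := by
      rw [← det_emb, ← he]; exact hd
    obtain ⟨g', hg'⟩ : ∃ g' : Matrix.SpecialLinearGroup (Fin m) F,
        (g' : Matrix (Fin m) (Fin m) F) = (ρ x).submatrix Fin.castSucc Fin.castSucc :=
      ⟨⟨_, hd'⟩, rfl⟩
    refine ⟨g', hρ ?_⟩
    rw [hψ, hg']; exact he.symm

theorem range_le_centralizer (ρ : G →* Matrix (Fin (m + 1)) (Fin (m + 1)) F)
    (hρ : Function.Injective ρ) (ψ : Matrix.SpecialLinearGroup (Fin m) F →* G)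
    (hψ : ∀ g : Matrix.SpecialLinearGroup (Fin m) F, ρ (ψ g) = emb (g : Matrix (Fin m) (Fin m) F))
    (t : G) (ht : ρ t = D F m) : ψ.range ≤ Subgroup.centralizer ({t} : Set G) := by
  rintro _ ⟨g, rfl⟩
  rw [Subgroup.mem_centralizer_singleton_iff]
  apply hρ
  rw [map_mul, map_mul, hψ, ht]
  exact commute_D_of_isBlock (isBlock_emb _)

theorem isBlock_of_mem_centralizer (ρ : G →* Matrix (Fin (m + 1)) (Fin (m + 1)) F)
    (h2 : (2 : F) ≠ 0) (t : G) (ht : ρ t = D F m) {c : G}
    (hc : c ∈ Subgroup.centralizer ({t} : Set G)) : IsBlock (ρ c) := by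
  rw [Subgroup.mem_centralizer_singleton_iff] at hc
  have h := congrArg ρ hc
  rw [map_mul, map_mul, ht] at h
  exact isBlock_of_commute_D h2 h

/-- The last diagonal entry, as a homomorphism on the centralizer of `t`. -/
def chi (ρ : G →* Matrix (Fin (m + 1)) (Fin (m + 1)) F) (h2 : (2 : F) ≠ 0) (t : G)
    (ht : ρ t = D F m) : ↥(Subgroup.centralizer ({t} : Set G)) →* F where
  toFun c := ρ (c : G) (Fin.last m) (Fin.last m)
  map_one' := by
    show ρ (1 : G) (Fin.last m) (Fin.last m) = 1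
    rw [map_one, Matrix.one_apply_eq]
  map_mul' a b := by
    show ρ ((a : G) * (b : G)) (Fin.last m) (Fin.last m) = _
    rw [map_mul, last_mul (isBlock_of_mem_centralizer ρ h2 t ht a.2)]

theorem conj_mem_range (ρ : G →* Matrix (Fin (m + 1)) (Fin (m + 1)) F)
    (hρ : Function.Injective ρ) (ψ : Matrix.SpecialLinearGroup (Fin m) F →* G)
    (hψ : ∀ g : Matrix.SpecialLinearGroup (Fin m) F, ρ (ψ g) = emb (g : Matrix (Fin m) (Fin m) F))
    (h2 : (2 : F) ≠ 0) (t : G) (ht : ρ t = D F m) {c x : G}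
    (hc : c ∈ Subgroup.centralizer ({t} : Set G)) (hx : x ∈ ψ.range) :
    c * x * c⁻¹ ∈ ψ.range := by
  have hxC : x ∈ Subgroup.centralizer ({t} : Set G) := range_le_centralizer ρ hρ ψ hψ t ht hx
  have hyC : c * x * c⁻¹ ∈ Subgroup.centralizer ({t} : Set G) :=
    mul_mem (mul_mem hc hxC) (inv_mem hc)
  rw [mem_range_iff ρ hρ ψ hψ] at hx ⊢
  refine ⟨isBlock_of_mem_centralizer ρ h2 t ht hyC, ?_, ?_⟩
  · have h := map_conj_comm (chi ρ h2 t ht) ⟨c, hc⟩ ⟨x, hxC⟩
    exact h.trans hx.2.1
  · have h := map_conj_comm (Matrix.detMonoidHom.comp ρ) c x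
    exact h.trans hx.2.2

theorem commutator_mem_range (ρ : G →* Matrix (Fin (m + 1)) (Fin (m + 1)) F)
    (hρ : Function.Injective ρ) (ψ : Matrix.SpecialLinearGroup (Fin m) F →* G)
    (hψ : ∀ g : Matrix.SpecialLinearGroup (Fin m) F, ρ (ψ g) = emb (g : Matrix (Fin m) (Fin m) F))
    (h2 : (2 : F) ≠ 0) (t : G) (ht : ρ t = D F m) {a b : G}
    (ha : a ∈ Subgroup.centralizer ({t} : Set G)) (hb : b ∈ Subgroup.centralizer ({t} : Set G)) :
    ⁅a, b⁆ ∈ ψ.range := by
  have hC : ⁅a, b⁆ ∈ Subgroup.centralizer ({t} : Set G) := by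
    rw [commutatorElement_def]
    exact mul_mem (mul_mem (mul_mem ha hb) (inv_mem ha)) (inv_mem hb)
  rw [mem_range_iff ρ hρ ψ hψ]
  refine ⟨isBlock_of_mem_centralizer ρ h2 t ht hC, ?_, ?_⟩
  · exact map_commutator_comm (chi ρ h2 t ht) ⟨a, ha⟩ ⟨b, hb⟩
  · exact map_commutator_comm (Matrix.detMonoidHom.comp ρ) a b

/-- An element centralizing the block `SL_m` is diagonal, constant on the block (`m ≥ 2`). -/
theorem diag_of_mem_centralizer_range (ρ : G →* Matrix (Fin (m + 1)) (Fin (m + 1)) F)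
    (ψ : Matrix.SpecialLinearGroup (Fin m) F →* G)
    (hψ : ∀ g : Matrix.SpecialLinearGroup (Fin m) F, ρ (ψ g) = emb (g : Matrix (Fin m) (Fin m) F))
    (hm : 2 ≤ m) {x : G} (hx : x ∈ Subgroup.centralizer (ψ.range : Set G)) :
    (∀ k l, k ≠ l → ρ x k l = 0) ∧
      ∀ i j : Fin m, ρ x i.castSucc i.castSucc = ρ x j.castSucc j.castSucc := by
  have : Nontrivial (Fin m) := Fin.nontrivial_iff_two_le.mpr hm
  have key : ∀ i j : Fin m, i ≠ j →
      ρ x * Matrix.single i.castSucc j.castSucc (1 : F) =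
        Matrix.single i.castSucc j.castSucc (1 : F) * ρ x := by
    intro i j hij
    have h1 := Subgroup.mem_centralizer_iff.mp hx
      (ψ (Matrix.SpecialLinearGroup.transvection hij 1)) ⟨_, rfl⟩
    have h2 := congrArg ρ h1
    rw [map_mul, map_mul, hψ] at h2
    have h3 : ((Matrix.SpecialLinearGroup.transvection hij (1 : F) :
        Matrix.SpecialLinearGroup (Fin m) F) : Matrix (Fin m) (Fin m) F) =
        Matrix.transvection i j 1 := rfl
    rw [h3, emb_transvection, add_mul, mul_add, one_mul, mul_one] at h2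
    exact (add_left_cancel h2).symm
  have hcol : ∀ (i : Fin m) (k : Fin (m + 1)), k ≠ i.castSucc → ρ x k i.castSucc = 0 := by
    intro i k hk
    obtain ⟨j, hj⟩ := exists_ne i
    have h := congrFun (congrFun (key i j hj.symm) k) j.castSucc
    rw [Matrix.mul_single_apply_same, Matrix.single_mul_apply_of_ne _ _ _ _ _ hk, mul_one] at h
    exact h
  have hrow : ∀ (j : Fin m) (l : Fin (m + 1)), l ≠ j.castSucc → ρ x j.castSucc l = 0 := by
    intro j l hl
    obtain ⟨i, hi⟩ := exists_ne j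
    have h := congrFun (congrFun (key i j hi) i.castSucc) l
    rw [Matrix.mul_single_apply_of_ne _ _ _ _ _ hl, Matrix.single_mul_apply_same, one_mul] at h
    exact h.symm
  refine ⟨?_, ?_⟩
  · intro k l
    refine Fin.lastCases ?_ (fun l' => ?_) l
    · refine Fin.lastCases ?_ (fun k' => ?_) k
      · intro h; exact absurd rfl h
      · intro h; exact hrow k' _ (Ne.symm h)
    · intro h; exact hcol l' k h
  · intro i j
    by_cases hij : i = j
    · rw [hij]
    · have h := congrFun (congrFun (key i j hij) i.castSucc) j.castSucc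
      rw [Matrix.mul_single_apply_same, Matrix.single_mul_apply_same, mul_one, one_mul] at h
      exact h

end abstract

section SL

variable {F : Type*} [Field F] {m : ℕ}

theorem qs_SL_of_three_le (hm : 3 ≤ m) : IsQuasisimple (Matrix.SpecialLinearGroup (Fin m) F) :=
  ⟨⟨Cfsg.Agent.Lib.Helper2.SLGen.commutator_eq_top (by simpa using hm)⟩,
    Cfsg.Agent.S0249.result m hm⟩

theorem qs_SL_two {a : F} (ha : a ≠ 0) (hasq : a ^ 2 ≠ 1) :
    IsQuasisimple (Matrix.SpecialLinearGroup (Fin 2) F) :=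
  ⟨⟨Matrix.SL2.commutator_eq_top ha hasq⟩,
    Matrix.ProjectiveSpecialLinearGroup.rank_two_simple' ⟨a, ha, hasq⟩⟩

theorem exists_sq_ne_one [Finite F] (hF : 4 ≤ Nat.card F) : ∃ a : F, a ≠ 0 ∧ a ^ 2 ≠ 1 := by
  obtain ⟨x, hx⟩ : IsCyclic Fˣ := by infer_instance
  refine ⟨x, Units.ne_zero x, fun h ↦ ?_⟩
  grw [Nat.card_eq_card_units_add_one F, ← orderOf_eq_card_of_forall_mem_zpowers hx,
    orderOf_le_of_pow_eq_one zero_lt_two (Units.ext <| by simpa using h)] at hF
  omega

theorem two_ne_zero_of_odd_card [Fintype F] (hF : Odd (Fintype.card F)) : (2 : F) ≠ 0 := by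
  apply Ring.two_ne_zero
  intro h
  have h1 := FiniteField.even_card_iff_char_two.mp h
  rw [Nat.odd_iff] at hF
  omega

/-- `SL_m(F)` has even order for `m ≥ 2` in odd characteristic. -/
theorem even_card_SL (h2 : (2 : F) ≠ 0) (hm : 2 ≤ m) :
    Even (Nat.card (Matrix.SpecialLinearGroup (Fin m) F)) := by
  have hij : (⟨0, by omega⟩ : Fin m) ≠ ⟨1, by omega⟩ := by
    intro h; simp [Fin.ext_iff] at h
  have hne : (-1 : F) ≠ 0 := neg_ne_zero.mpr one_ne_zero
  have hneg : (-1 : F) ≠ 1 := by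
    intro h; apply h2; linear_combination -h
  have hsq : Matrix.SpecialLinearGroup.diag2n hij (-1 : F) hne ^ 2 = 1 := by
    apply Subtype.ext
    rw [pow_two]
    show (Matrix.SpecialLinearGroup.diag2n hij (-1 : F) hne).1 *
      (Matrix.SpecialLinearGroup.diag2n hij (-1 : F) hne).1 = 1
    rw [Matrix.SpecialLinearGroup.diag2n_coe, Matrix.diagonal_mul_diagonal, ← Matrix.diagonal_one]
    congr 1
    funext k
    split_ifs <;> simp
  have hne1 : Matrix.SpecialLinearGroup.diag2n hij (-1 : F) hne ≠ 1 := by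
    intro h
    have h1 := congrArg (fun g : Matrix.SpecialLinearGroup (Fin m) F =>
      (g : Matrix (Fin m) (Fin m) F) ⟨0, by omega⟩ ⟨0, by omega⟩) h
    simp [Matrix.SpecialLinearGroup.diag2n_coe] at h1
    exact hneg h1
  have hord : orderOf (Matrix.SpecialLinearGroup.diag2n hij (-1 : F) hne) = 2 :=
    orderOf_eq_prime hsq hne1
  rw [even_iff_two_dvd, ← hord]
  exact orderOf_dvd_natCard _

end SL

end Cfsg.Agent.Lib.Helper9.BlockLast
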