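import Mathlib

namespace Cfsg.Agent.Lib.Helper9.InvGraphGlue

theorem conj_of_odd {G : Type*} [Group G] {x z : G} (hx : x * x = 1) (hz : z * z = 1)
    (h : Odd (orderOf (x * z))) : IsConj x z := by
  obtain ⟨j, hj⟩ := h
  have e2 : (x * z) * x * (x * z) = x := by
    calc (x * z) * x * (x * z) = x * (z * (x * x) * z) := by simp only [mul_assoc]
      _ = x := by rw [hx, mul_one, hz, mul_one]
  have I1 : ∀ k : ℕ, (x * z) ^ k * x * (x * z) ^ k = x := by
    intro k
    induction k with
    | zero => simp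
    | succ k ih =>
      calc (x * z) ^ (k + 1) * x * (x * z) ^ (k + 1)
          = ((x * z) ^ k * (x * z)) * x * ((x * z) * (x * z) ^ k) := by
            rw [← pow_succ, ← pow_succ']
        _ = (x * z) ^ k * ((x * z) * x * (x * z)) * (x * z) ^ k := by simp only [mul_assoc]
        _ = x := by rw [e2, ih]
  have hrpow : (x * z) ^ (2 * j + 1) = 1 := by rw [← hj]; exact pow_orderOf_eq_one _
  have h2 : (x * z) ^ j * (x * z) ^ j * (x * z) = 1 := by
    rw [← pow_add, ← pow_succ, show j + j + 1 = 2 * j + 1 by ring]; exact hrpow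
  have h3 : (x * z) ^ j * (x * z) ^ j = (x * z)⁻¹ := eq_inv_of_mul_eq_one_left h2
  have hxinv : x⁻¹ = x := inv_eq_of_mul_eq_one_left hx
  have h4 : (x * z) ^ j * x = x * ((x * z) ^ j)⁻¹ := eq_mul_inv_of_mul_eq (I1 j)
  refine isConj_iff.mpr ⟨(x * z) ^ j, ?_⟩
  rw [mul_inv_eq_iff_eq_mul, h4, mul_inv_eq_iff_eq_mul, mul_assoc, h3, mul_inv_rev, ← mul_assoc,
    mul_inv_cancel, one_mul, hxinv]

theorem two_swaps {α : Type*} [DecidableEq α] {p q r s : α} (h : [p, q, r, s].Nodup) :
    Equiv.swap p q * Equiv.swap r s = Equiv.swap r s * Equiv.swap p q ∧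
    orderOf (Equiv.swap p q * Equiv.swap r s) = 2 ∧ Equiv.swap p q * Equiv.swap r s ≠ 1 := by
  have hd : Equiv.Perm.Disjoint (Equiv.swap p q) (Equiv.swap r s) :=
    Equiv.Perm.disjoint_swap_swap h
  have hc := hd.commute
  have hne : Equiv.swap p q * Equiv.swap r s ≠ 1 := by
    intro h1
    have h2 := congrArg (fun f : Equiv.Perm α => f p) h1
    simp only [Equiv.Perm.coe_mul, Function.comp_apply, Equiv.Perm.coe_one, id_eq] at h2
    simp only [List.nodup_cons, List.mem_cons, List.not_mem_nil, or_false, not_or,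
      List.nodup_nil, and_true, not_false_eq_true] at h
    obtain ⟨⟨hpq, hpr, hps⟩, _⟩ := h
    rw [Equiv.swap_apply_of_ne_of_ne hpr hps, Equiv.swap_apply_left] at h2
    exact hpq h2.symm
  refine ⟨hc.eq, ?_, hne⟩
  have : Fact (Nat.Prime 2) := ⟨Nat.prime_two⟩
  apply orderOf_eq_prime _ hne
  rw [hc.mul_pow, pow_two, pow_two, Equiv.swap_mul_self, Equiv.swap_mul_self, one_mul]

theorem glue (n : ℕ) (hn : 5 ≤ n) (t : Equiv.Perm (Fin n)) (ht : orderOf t = 2)
  (core : ∀ x y : Equiv.Perm (Fin n), x * x = 1 → y * y = 1 → x.support.card = y.support.card →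
     ∃ z : Equiv.Perm (Fin n), z * z = 1 ∧ Odd (orderOf (x * z)) ∧ Odd (orderOf (y * z))) :
  (SimpleGraph.fromRel fun x y : {x : Equiv.Perm (Fin n) // IsConj t x} => Odd (orderOf (x.1 * y.1))).Connected ∧
  (SimpleGraph.fromRel fun x y : {x : Equiv.Perm (Fin n) // IsConj t x} => Odd (orderOf (x.1 * y.1))).diam = 2 := by
  classical
  have htt : t * t = 1 := by
    have := pow_orderOf_eq_one t
    rw [ht, pow_two] at this
    exact this
  have hsq : ∀ x : {x : Equiv.Perm (Fin n) // IsConj t x}, x.1 * x.1 = 1 := by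
    rintro ⟨x, hx⟩
    obtain ⟨c, rfl⟩ := isConj_iff.mp hx
    show c * t * c⁻¹ * (c * t * c⁻¹) = 1
    calc c * t * c⁻¹ * (c * t * c⁻¹) = c * (t * t) * c⁻¹ := by group
      _ = 1 := by rw [htt]; group
  have hcard : ∀ x : {x : Equiv.Perm (Fin n) // IsConj t x},
      x.1.support.card = t.support.card := by
    rintro ⟨x, hx⟩
    obtain ⟨c, rfl⟩ := isConj_iff.mp hx
    exact Equiv.Perm.card_support_conj
  have hwalk : ∀ x y : {x : Equiv.Perm (Fin n) // IsConj t x},
      ∃ p : (SimpleGraph.fromRel fun x y : {x : Equiv.Perm (Fin n) // IsConj t x} =>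
        Odd (orderOf (x.1 * y.1))).Walk x y, p.length ≤ 2 := by
    intro x y
    by_cases hxy : x = y
    · subst hxy; exact ⟨SimpleGraph.Walk.nil, by simp⟩
    obtain ⟨z, hz, hxz, hyz⟩ := core x.1 y.1 (hsq x) (hsq y) ((hcard x).trans (hcard y).symm)
    have hzc : IsConj t z := x.2.trans (conj_of_odd (hsq x) hz hxz)
    by_cases hzx : z = x.1
    · have hadj : (SimpleGraph.fromRel fun x y : {x : Equiv.Perm (Fin n) // IsConj t x} =>
        Odd (orderOf (x.1 * y.1))).Adj x y := by
        rw [SimpleGraph.fromRel_adj]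
        refine ⟨hxy, Or.inr ?_⟩
        rw [← hzx]; exact hyz
      exact ⟨SimpleGraph.Walk.cons hadj SimpleGraph.Walk.nil, by simp⟩
    by_cases hzy : z = y.1
    · have hadj : (SimpleGraph.fromRel fun x y : {x : Equiv.Perm (Fin n) // IsConj t x} =>
        Odd (orderOf (x.1 * y.1))).Adj x y := by
        rw [SimpleGraph.fromRel_adj]
        refine ⟨hxy, Or.inl ?_⟩
        rw [← hzy]; exact hxz
      exact ⟨SimpleGraph.Walk.cons hadj SimpleGraph.Walk.nil, by simp⟩
    · have a1 : (SimpleGraph.fromRel fun x y : {x : Equiv.Perm (Fin n) // IsConj t x} =>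
        Odd (orderOf (x.1 * y.1))).Adj x ⟨z, hzc⟩ := by
        rw [SimpleGraph.fromRel_adj]
        refine ⟨fun h => hzx (congrArg Subtype.val h).symm, Or.inl hxz⟩
      have a2 : (SimpleGraph.fromRel fun x y : {x : Equiv.Perm (Fin n) // IsConj t x} =>
        Odd (orderOf (x.1 * y.1))).Adj ⟨z, hzc⟩ y := by
        rw [SimpleGraph.fromRel_adj]
        refine ⟨fun h => hzy (congrArg Subtype.val h), Or.inr hyz⟩
      exact ⟨SimpleGraph.Walk.cons a1 (SimpleGraph.Walk.cons a2 SimpleGraph.Walk.nil), by simp⟩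
  have hne : Nonempty {x : Equiv.Perm (Fin n) // IsConj t x} := ⟨⟨t, IsConj.refl t⟩⟩
  have hconn : (SimpleGraph.fromRel fun x y : {x : Equiv.Perm (Fin n) // IsConj t x} =>
        Odd (orderOf (x.1 * y.1))).Connected := by
    rw [SimpleGraph.connected_iff]
    refine ⟨fun x y => ?_, hne⟩
    obtain ⟨p, _⟩ := hwalk x y
    exact ⟨p⟩
  refine ⟨hconn, ?_⟩
  have hdist : ∀ x y, (SimpleGraph.fromRel fun x y : {x : Equiv.Perm (Fin n) // IsConj t x} =>
        Odd (orderOf (x.1 * y.1))).dist x y ≤ 2 := by
    intro x y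
    obtain ⟨p, hp⟩ := hwalk x y
    exact (SimpleGraph.dist_le p).trans hp
  have hle : (SimpleGraph.fromRel fun x y : {x : Equiv.Perm (Fin n) // IsConj t x} =>
        Odd (orderOf (x.1 * y.1))).diam ≤ 2 := by
    obtain ⟨u, v, huv⟩ := (SimpleGraph.fromRel fun x y : {x : Equiv.Perm (Fin n) // IsConj t x} =>
        Odd (orderOf (x.1 * y.1))).exists_dist_eq_diam
    rw [← huv]; exact hdist u v
  have hge : 2 ≤ (SimpleGraph.fromRel fun x y : {x : Equiv.Perm (Fin n) // IsConj t x} =>
        Odd (orderOf (x.1 * y.1))).diam := by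
    obtain ⟨u, hu, hne', hcomm, hord⟩ : ∃ u : Equiv.Perm (Fin n),
        IsConj t u ∧ u ≠ t ∧ t * u = u * t ∧ orderOf (t * u) = 2 := by
      have htne : t ≠ 1 := by
        intro h; rw [h, orderOf_one] at ht; exact absurd ht (by decide)
      obtain ⟨a, ha⟩ : ∃ a, t a ≠ a := by
        by_contra hcon
        apply htne
        ext v
        have := not_exists.mp hcon v
        simp only [not_not] at this
        simp [this]
      have htb : t (t a) = a := by
        have := congrArg (fun f : Equiv.Perm (Fin n) => f a) htt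
        simpa using this
      have hab : a ≠ t a := fun h => ha h.symm
      by_cases hcase : ∃ c, c ≠ a ∧ c ≠ t a ∧ t c ≠ c
      · obtain ⟨c, hca, hcb, htc⟩ := hcase
        have htd : t (t c) = c := by
          have := congrArg (fun f : Equiv.Perm (Fin n) => f c) htt
          simpa using this
        have hda : t c ≠ a := by
          intro h; apply hcb; rw [← htd, h]
        have hdb : t c ≠ t a := by
          intro h; exact hca (t.injective h)
        have hnd : [a, t c, t a, c].Nodup := by
          simp only [List.nodup_cons, List.mem_cons, List.not_mem_nil, or_false, not_or,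
            List.nodup_nil, and_true, not_false_eq_true]
          exact ⟨⟨fun h => hda h.symm, hab, fun h => hca h.symm⟩, ⟨hdb, htc⟩, fun h => hcb h.symm⟩
        obtain ⟨hc1, hc2, hc3⟩ := two_swaps hnd
        have hconj : t * Equiv.swap (t a) c * t⁻¹ = Equiv.swap a (t c) := by
          rw [← Equiv.swap_apply_apply, htb]
        have htinv : t⁻¹ = t := inv_eq_of_mul_eq_one_left htt
        have e1 : t * (Equiv.swap (t a) c * t * (Equiv.swap (t a) c)⁻¹)
            = Equiv.swap a (t c) * Equiv.swap (t a) c := by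
          rw [Equiv.swap_inv, ← hconj, htinv]; simp only [mul_assoc]
        have e2 : (Equiv.swap (t a) c * t * (Equiv.swap (t a) c)⁻¹) * t
            = Equiv.swap (t a) c * Equiv.swap a (t c) := by
          rw [Equiv.swap_inv, ← hconj, htinv]; simp only [mul_assoc]
        refine ⟨Equiv.swap (t a) c * t * (Equiv.swap (t a) c)⁻¹, isConj_iff.mpr ⟨_, rfl⟩,
          ?_, ?_, ?_⟩
        · intro h
          rw [h, htt] at e1
          exact hc3 e1.symm
        · rw [e1, e2, hc1]
        · rw [e1]; exact hc2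
      · have hts : t = Equiv.swap a (t a) := by
          ext v
          by_cases hva : v = a
          · subst hva; simp
          by_cases hvb : v = t a
          · rw [hvb, htb]; simp
          · have : t v = v := by
              by_contra hcon
              exact hcase ⟨v, hva, hvb, hcon⟩
            rw [this, Equiv.swap_apply_of_ne_of_ne hva hvb]
        have hcard2 : 1 < (({a, t a} : Finset (Fin n))ᶜ).card := by
          rw [Finset.card_compl, Fintype.card_fin]
          have := Finset.card_le_two (a := a) (b := t a)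
          omega
        obtain ⟨c, hc, d, hd, hcd⟩ := Finset.one_lt_card.mp hcard2
        simp only [Finset.mem_compl, Finset.mem_insert, Finset.mem_singleton, not_or] at hc hd
        have hnd : [a, t a, c, d].Nodup := by
          simp only [List.nodup_cons, List.mem_cons, List.not_mem_nil, or_false, not_or,
            List.nodup_nil, and_true, not_false_eq_true]
          exact ⟨⟨hab, fun h => hc.1 h.symm, fun h => hd.1 h.symm⟩,
            ⟨fun h => hc.2 h.symm, fun h => hd.2 h.symm⟩, hcd⟩
        obtain ⟨hc1, hc2, hc3⟩ := two_swaps hnd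
        refine ⟨Equiv.swap c d, ?_, ?_, ?_, ?_⟩
        · rw [hts]; exact Equiv.Perm.isConj_swap hab hcd
        · intro h
          have h2 : Equiv.swap c d a = t a := by rw [h]
          rw [Equiv.swap_apply_of_ne_of_ne (fun h => hc.1 h.symm) (fun h => hd.1 h.symm)] at h2
          exact hab h2
        · rw [hts]; exact hc1
        · rw [hts]; exact hc2
    have hed : (SimpleGraph.fromRel fun x y : {x : Equiv.Perm (Fin n) // IsConj t x} =>
        Odd (orderOf (x.1 * y.1))).ediam ≠ ⊤ := SimpleGraph.connected_iff_ediam_ne_top.mp hconn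
    have h1 := SimpleGraph.dist_le_diam hed (u := ⟨t, IsConj.refl t⟩) (v := ⟨u, hu⟩)
    have hd0 : (SimpleGraph.fromRel fun x y : {x : Equiv.Perm (Fin n) // IsConj t x} =>
        Odd (orderOf (x.1 * y.1))).dist ⟨t, IsConj.refl t⟩ ⟨u, hu⟩ ≠ 0 := by
      intro h0
      rw [SimpleGraph.Reachable.dist_eq_zero_iff (hconn.preconnected _ _)] at h0
      exact hne' (congrArg Subtype.val h0).symm
    have hd1 : (SimpleGraph.fromRel fun x y : {x : Equiv.Perm (Fin n) // IsConj t x} =>
        Odd (orderOf (x.1 * y.1))).dist ⟨t, IsConj.refl t⟩ ⟨u, hu⟩ ≠ 1 := by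
      intro h1'
      rw [SimpleGraph.dist_eq_one_iff_adj, SimpleGraph.fromRel_adj] at h1'
      obtain ⟨_, h | h⟩ := h1'
      · simp only at h; rw [hord] at h; exact absurd h (by decide)
      · simp only at h; rw [← hcomm, hord] at h; exact absurd h (by decide)
    omega
  omega

end Cfsg.Agent.Lib.Helper9.InvGraphGlue
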