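import Mathlib

namespace Cfsg.Agent.Lib.Helper9.InvLiftExc

theorem via_swap {α β : Type*} [DecidableEq α] [DecidableEq β] (f : β ↪ α) (i j : β) :
    Equiv.Perm.viaEmbeddingHom f (Equiv.swap i j) = Equiv.swap (f i) (f j) := by
  ext v
  rw [Equiv.Perm.viaEmbeddingHom_apply]
  by_cases hv : v ∈ Set.range f
  · obtain ⟨k, rfl⟩ := hv
    rw [Equiv.Perm.viaEmbedding_apply, f.injective.swap_apply]
  · rw [Equiv.Perm.viaEmbedding_apply_of_notMem _ _ _ hv, Equiv.swap_apply_of_ne_of_ne]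
    · rintro rfl; exact hv ⟨i, rfl⟩
    · rintro rfl; exact hv ⟨j, rfl⟩

theorem triple_of_words {α : Type*} [DecidableEq α] {n : ℕ} (f : Fin n ↪ α)
    (X Y Z : Equiv.Perm (Fin n)) (k : ℕ) (hk : Odd k) (hZ : Z * Z = 1)
    (hXZ : (X * Z) ^ k = 1) (hYZ : (Y * Z) ^ k = 1) (x y z : Equiv.Perm α)
    (hx : x = Equiv.Perm.viaEmbeddingHom f X) (hy : y = Equiv.Perm.viaEmbeddingHom f Y)
    (hz : z = Equiv.Perm.viaEmbeddingHom f Z) :
    z * z = 1 ∧ Odd (orderOf (x * z)) ∧ Odd (orderOf (y * z)) := by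
  subst hx hy hz
  refine ⟨by rw [← map_mul, hZ, map_one], ?_, ?_⟩
  · have : (Equiv.Perm.viaEmbeddingHom f X * Equiv.Perm.viaEmbeddingHom f Z) ^ k = 1 := by
      rw [← map_mul, ← map_pow, hXZ, map_one]
    exact Odd.of_dvd_nat hk (orderOf_dvd_of_pow_eq_one this)
  · have : (Equiv.Perm.viaEmbeddingHom f Y * Equiv.Perm.viaEmbeddingHom f Z) ^ k = 1 := by
      rw [← map_mul, ← map_pow, hYZ, map_one]
    exact Odd.of_dvd_nat hk (orderOf_dvd_of_pow_eq_one this)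

/-- two disjoint alternating 4-cycles `a b c d` and `a' b' c' d'`. -/
theorem c44 {α : Type*} [DecidableEq α] (x y : Equiv.Perm α) (a b c d a' b' c' d' : α)
    (hnd : [a, b, c, d, a', b', c', d'].Nodup)
    (hx : x * Equiv.swap a b * Equiv.swap c d = Equiv.swap a' b' * Equiv.swap c' d')
    (hy : y * Equiv.swap b c * Equiv.swap d a = Equiv.swap b' c' * Equiv.swap d' a') :
    (Equiv.swap a b * Equiv.swap b' c' * Equiv.swap c a' * Equiv.swap d d') *
      (Equiv.swap a b * Equiv.swap b' c' * Equiv.swap c a' * Equiv.swap d d') = 1 ∧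
    Odd (orderOf (x * (Equiv.swap a b * Equiv.swap b' c' * Equiv.swap c a' * Equiv.swap d d'))) ∧
    Odd (orderOf (y * (Equiv.swap a b * Equiv.swap b' c' * Equiv.swap c a' * Equiv.swap d d'))) := by
  have hinj : Function.Injective ![a, b, c, d, a', b', c', d'] :=
    List.nodup_ofFn.mp (by simpa [List.ofFn_succ] using hnd)
  have hxe : x = Equiv.swap a' b' * Equiv.swap c' d' * (Equiv.swap c d)⁻¹ * (Equiv.swap a b)⁻¹ := by
    rw [← hx]; group
  have hye : y = Equiv.swap b' c' * Equiv.swap d' a' * (Equiv.swap d a)⁻¹ * (Equiv.swap b c)⁻¹ := by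
    rw [← hy]; group
  refine triple_of_words (⟨![a, b, c, d, a', b', c', d'], hinj⟩ : Fin 8 ↪ α)
    (Equiv.swap 4 5 * Equiv.swap 6 7 * (Equiv.swap 2 3)⁻¹ * (Equiv.swap 0 1)⁻¹)
    (Equiv.swap 5 6 * Equiv.swap 7 4 * (Equiv.swap 3 0)⁻¹ * (Equiv.swap 1 2)⁻¹)
    (Equiv.swap 0 1 * Equiv.swap 5 6 * Equiv.swap 2 4 * Equiv.swap 3 7) 3 (by decide)
    (by decide +kernel) (by decide +kernel) (by decide +kernel) _ _ _ ?_ ?_ ?_
  · rw [hxe]; simp [via_swap]
  · rw [hye]; simp [via_swap]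
  · simp [via_swap]


/-- alternating 8-cycle, case `p = a'`, `q = d'` (`p = y a`, `q = y d`), where
`x * swap a b * swap c d` and `y * swap p a * swap b c * swap d q * swap p q` form the
alternating 4-cycle `a' b' c' d'`. -/
theorem c8_1 {α : Type*} [DecidableEq α] (x y : Equiv.Perm α) (a b c d a' b' c' d' : α)
    (hnd : [a, b, c, d, a', b', c', d'].Nodup)
    (hx : x * Equiv.swap a b * Equiv.swap c d = Equiv.swap a' b' * Equiv.swap c' d')
    (hy : y * Equiv.swap a' a * Equiv.swap b c * Equiv.swap d d' * Equiv.swap a' d'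
      = Equiv.swap b' c' * Equiv.swap d' a') :
    (Equiv.swap a b * Equiv.swap d d' * Equiv.swap c b' * Equiv.swap c' a') *
      (Equiv.swap a b * Equiv.swap d d' * Equiv.swap c b' * Equiv.swap c' a') = 1 ∧
    Odd (orderOf (x * (Equiv.swap a b * Equiv.swap d d' * Equiv.swap c b' * Equiv.swap c' a'))) ∧
    Odd (orderOf (y * (Equiv.swap a b * Equiv.swap d d' * Equiv.swap c b' * Equiv.swap c' a'))) := by
  have hinj : Function.Injective ![a, b, c, d, a', b', c', d'] :=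
    List.nodup_ofFn.mp (by simpa [List.ofFn_succ] using hnd)
  have hxe : x = Equiv.swap a' b' * Equiv.swap c' d' * (Equiv.swap c d)⁻¹ * (Equiv.swap a b)⁻¹ := by
    rw [← hx]; group
  have hye : y = Equiv.swap b' c' * Equiv.swap d' a' * (Equiv.swap a' d')⁻¹ * (Equiv.swap d d')⁻¹
      * (Equiv.swap b c)⁻¹ * (Equiv.swap a' a)⁻¹ := by
    rw [← hy]; group
  refine triple_of_words (⟨![a, b, c, d, a', b', c', d'], hinj⟩ : Fin 8 ↪ α)
    (Equiv.swap 4 5 * Equiv.swap 6 7 * (Equiv.swap 2 3)⁻¹ * (Equiv.swap 0 1)⁻¹)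
    (Equiv.swap 5 6 * Equiv.swap 7 4 * (Equiv.swap 4 7)⁻¹ * (Equiv.swap 3 7)⁻¹
      * (Equiv.swap 1 2)⁻¹ * (Equiv.swap 4 0)⁻¹)
    (Equiv.swap 0 1 * Equiv.swap 3 7 * Equiv.swap 2 5 * Equiv.swap 6 4) 3 (by decide)
    (by decide +kernel) (by decide +kernel) (by decide +kernel) _ _ _ ?_ ?_ ?_
  · rw [hxe]; simp [via_swap]
  · rw [hye]; simp [via_swap]
  · simp [via_swap]

/-- alternating 8-cycle, case `p = d'`, `q = a'` (`p = y a`, `q = y d`), where
`x * swap a b * swap c d` and `y * swap p a * swap b c * swap d q * swap p q` form the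
alternating 4-cycle `a' b' c' d'`. -/
theorem c8_2 {α : Type*} [DecidableEq α] (x y : Equiv.Perm α) (a b c d a' b' c' d' : α)
    (hnd : [a, b, c, d, a', b', c', d'].Nodup)
    (hx : x * Equiv.swap a b * Equiv.swap c d = Equiv.swap a' b' * Equiv.swap c' d')
    (hy : y * Equiv.swap d' a * Equiv.swap b c * Equiv.swap d a' * Equiv.swap d' a'
      = Equiv.swap b' c' * Equiv.swap d' a') :
    (Equiv.swap a b * Equiv.swap d a' * Equiv.swap c c' * Equiv.swap b' d') *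
      (Equiv.swap a b * Equiv.swap d a' * Equiv.swap c c' * Equiv.swap b' d') = 1 ∧
    Odd (orderOf (x * (Equiv.swap a b * Equiv.swap d a' * Equiv.swap c c' * Equiv.swap b' d'))) ∧
    Odd (orderOf (y * (Equiv.swap a b * Equiv.swap d a' * Equiv.swap c c' * Equiv.swap b' d'))) := by
  have hinj : Function.Injective ![a, b, c, d, a', b', c', d'] :=
    List.nodup_ofFn.mp (by simpa [List.ofFn_succ] using hnd)
  have hxe : x = Equiv.swap a' b' * Equiv.swap c' d' * (Equiv.swap c d)⁻¹ * (Equiv.swap a b)⁻¹ := by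
    rw [← hx]; group
  have hye : y = Equiv.swap b' c' * Equiv.swap d' a' * (Equiv.swap d' a')⁻¹ * (Equiv.swap d a')⁻¹
      * (Equiv.swap b c)⁻¹ * (Equiv.swap d' a)⁻¹ := by
    rw [← hy]; group
  refine triple_of_words (⟨![a, b, c, d, a', b', c', d'], hinj⟩ : Fin 8 ↪ α)
    (Equiv.swap 4 5 * Equiv.swap 6 7 * (Equiv.swap 2 3)⁻¹ * (Equiv.swap 0 1)⁻¹)
    (Equiv.swap 5 6 * Equiv.swap 7 4 * (Equiv.swap 7 4)⁻¹ * (Equiv.swap 3 4)⁻¹
      * (Equiv.swap 1 2)⁻¹ * (Equiv.swap 7 0)⁻¹)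
    (Equiv.swap 0 1 * Equiv.swap 3 4 * Equiv.swap 2 6 * Equiv.swap 5 7) 3 (by decide)
    (by decide +kernel) (by decide +kernel) (by decide +kernel) _ _ _ ?_ ?_ ?_
  · rw [hxe]; simp [via_swap]
  · rw [hye]; simp [via_swap]
  · simp [via_swap]

/-- alternating 8-cycle, case `p = b'`, `q = c'` (`p = y a`, `q = y d`), where
`x * swap a b * swap c d` and `y * swap p a * swap b c * swap d q * swap p q` form the
alternating 4-cycle `a' b' c' d'`. -/
theorem c8_3 {α : Type*} [DecidableEq α] (x y : Equiv.Perm α) (a b c d a' b' c' d' : α)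
    (hnd : [a, b, c, d, a', b', c', d'].Nodup)
    (hx : x * Equiv.swap a b * Equiv.swap c d = Equiv.swap a' b' * Equiv.swap c' d')
    (hy : y * Equiv.swap b' a * Equiv.swap b c * Equiv.swap d c' * Equiv.swap b' c'
      = Equiv.swap b' c' * Equiv.swap d' a') :
    (Equiv.swap a b * Equiv.swap d c' * Equiv.swap c a' * Equiv.swap d' b') *
      (Equiv.swap a b * Equiv.swap d c' * Equiv.swap c a' * Equiv.swap d' b') = 1 ∧
    Odd (orderOf (x * (Equiv.swap a b * Equiv.swap d c' * Equiv.swap c a' * Equiv.swap d' b'))) ∧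
    Odd (orderOf (y * (Equiv.swap a b * Equiv.swap d c' * Equiv.swap c a' * Equiv.swap d' b'))) := by
  have hinj : Function.Injective ![a, b, c, d, a', b', c', d'] :=
    List.nodup_ofFn.mp (by simpa [List.ofFn_succ] using hnd)
  have hxe : x = Equiv.swap a' b' * Equiv.swap c' d' * (Equiv.swap c d)⁻¹ * (Equiv.swap a b)⁻¹ := by
    rw [← hx]; group
  have hye : y = Equiv.swap b' c' * Equiv.swap d' a' * (Equiv.swap b' c')⁻¹ * (Equiv.swap d c')⁻¹
      * (Equiv.swap b c)⁻¹ * (Equiv.swap b' a)⁻¹ := by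
    rw [← hy]; group
  refine triple_of_words (⟨![a, b, c, d, a', b', c', d'], hinj⟩ : Fin 8 ↪ α)
    (Equiv.swap 4 5 * Equiv.swap 6 7 * (Equiv.swap 2 3)⁻¹ * (Equiv.swap 0 1)⁻¹)
    (Equiv.swap 5 6 * Equiv.swap 7 4 * (Equiv.swap 5 6)⁻¹ * (Equiv.swap 3 6)⁻¹
      * (Equiv.swap 1 2)⁻¹ * (Equiv.swap 5 0)⁻¹)
    (Equiv.swap 0 1 * Equiv.swap 3 6 * Equiv.swap 2 4 * Equiv.swap 7 5) 3 (by decide)
    (by decide +kernel) (by decide +kernel) (by decide +kernel) _ _ _ ?_ ?_ ?_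
  · rw [hxe]; simp [via_swap]
  · rw [hye]; simp [via_swap]
  · simp [via_swap]

/-- alternating 8-cycle, case `p = c'`, `q = b'` (`p = y a`, `q = y d`), where
`x * swap a b * swap c d` and `y * swap p a * swap b c * swap d q * swap p q` form the
alternating 4-cycle `a' b' c' d'`. -/
theorem c8_4 {α : Type*} [DecidableEq α] (x y : Equiv.Perm α) (a b c d a' b' c' d' : α)
    (hnd : [a, b, c, d, a', b', c', d'].Nodup)
    (hx : x * Equiv.swap a b * Equiv.swap c d = Equiv.swap a' b' * Equiv.swap c' d')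
    (hy : y * Equiv.swap c' a * Equiv.swap b c * Equiv.swap d b' * Equiv.swap c' b'
      = Equiv.swap b' c' * Equiv.swap d' a') :
    (Equiv.swap a b * Equiv.swap d b' * Equiv.swap c d' * Equiv.swap a' c') *
      (Equiv.swap a b * Equiv.swap d b' * Equiv.swap c d' * Equiv.swap a' c') = 1 ∧
    Odd (orderOf (x * (Equiv.swap a b * Equiv.swap d b' * Equiv.swap c d' * Equiv.swap a' c'))) ∧
    Odd (orderOf (y * (Equiv.swap a b * Equiv.swap d b' * Equiv.swap c d' * Equiv.swap a' c'))) := by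
  have hinj : Function.Injective ![a, b, c, d, a', b', c', d'] :=
    List.nodup_ofFn.mp (by simpa [List.ofFn_succ] using hnd)
  have hxe : x = Equiv.swap a' b' * Equiv.swap c' d' * (Equiv.swap c d)⁻¹ * (Equiv.swap a b)⁻¹ := by
    rw [← hx]; group
  have hye : y = Equiv.swap b' c' * Equiv.swap d' a' * (Equiv.swap c' b')⁻¹ * (Equiv.swap d b')⁻¹
      * (Equiv.swap b c)⁻¹ * (Equiv.swap c' a)⁻¹ := by
    rw [← hy]; group
  refine triple_of_words (⟨![a, b, c, d, a', b', c', d'], hinj⟩ : Fin 8 ↪ α)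
    (Equiv.swap 4 5 * Equiv.swap 6 7 * (Equiv.swap 2 3)⁻¹ * (Equiv.swap 0 1)⁻¹)
    (Equiv.swap 5 6 * Equiv.swap 7 4 * (Equiv.swap 6 5)⁻¹ * (Equiv.swap 3 5)⁻¹
      * (Equiv.swap 1 2)⁻¹ * (Equiv.swap 6 0)⁻¹)
    (Equiv.swap 0 1 * Equiv.swap 3 5 * Equiv.swap 2 7 * Equiv.swap 4 6) 3 (by decide)
    (by decide +kernel) (by decide +kernel) (by decide +kernel) _ _ _ ?_ ?_ ?_
  · rw [hxe]; simp [via_swap]
  · rw [hye]; simp [via_swap]
  · simp [via_swap]

/-- alternating 8-cycle, all four positions of `(p, q)` on the reduced 4-cycle `a' b' c' d'`. -/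
theorem c8_any {α : Type*} [DecidableEq α] (x y : Equiv.Perm α) (a b c d a' b' c' d' p q : α)
    (hnd : [a, b, c, d, a', b', c', d'].Nodup)
    (hpq : (p = a' ∧ q = d') ∨ (p = d' ∧ q = a') ∨ (p = b' ∧ q = c') ∨ (p = c' ∧ q = b'))
    (hx : x * Equiv.swap a b * Equiv.swap c d = Equiv.swap a' b' * Equiv.swap c' d')
    (hy : y * Equiv.swap p a * Equiv.swap b c * Equiv.swap d q * Equiv.swap p q
      = Equiv.swap b' c' * Equiv.swap d' a') :
    ∃ z : Equiv.Perm α, z * z = 1 ∧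
      (∀ v, v ≠ a → v ≠ b → v ≠ c → v ≠ d → v ≠ a' → v ≠ b' → v ≠ c' → v ≠ d' → z v = v) ∧
      Odd (orderOf (x * z)) ∧ Odd (orderOf (y * z)) := by
  rcases hpq with ⟨rfl, rfl⟩ | ⟨rfl, rfl⟩ | ⟨rfl, rfl⟩ | ⟨rfl, rfl⟩
  · obtain ⟨h1, h2, h3⟩ := c8_1 x y a b c d _ _ _ _ hnd hx hy
    refine ⟨_, h1, ?_, h2, h3⟩
    intro v ha hb hc hd ha' hb' hc' hd'
    simp [Equiv.swap_apply_of_ne_of_ne, ha, hb, hc, hd, ha', hb', hc', hd']
  · obtain ⟨h1, h2, h3⟩ := c8_2 x y a b c d _ _ _ _ hnd hx hy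
    refine ⟨_, h1, ?_, h2, h3⟩
    intro v ha hb hc hd ha' hb' hc' hd'
    simp [Equiv.swap_apply_of_ne_of_ne, ha, hb, hc, hd, ha', hb', hc', hd']
  · obtain ⟨h1, h2, h3⟩ := c8_3 x y a b c d _ _ _ _ hnd hx hy
    refine ⟨_, h1, ?_, h2, h3⟩
    intro v ha hb hc hd ha' hb' hc' hd'
    simp [Equiv.swap_apply_of_ne_of_ne, ha, hb, hc, hd, ha', hb', hc', hd']
  · obtain ⟨h1, h2, h3⟩ := c8_4 x y a b c d _ _ _ _ hnd hx hy
    refine ⟨_, h1, ?_, h2, h3⟩
    intro v ha hb hc hd ha' hb' hc' hd'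
    simp [Equiv.swap_apply_of_ne_of_ne, ha, hb, hc, hd, ha', hb', hc', hd']

/-- two disjoint alternating 4-cycles, existential form with support control. -/
theorem c44_any {α : Type*} [DecidableEq α] (x y : Equiv.Perm α) (a b c d a' b' c' d' : α)
    (hnd : [a, b, c, d, a', b', c', d'].Nodup)
    (hx : x * Equiv.swap a b * Equiv.swap c d = Equiv.swap a' b' * Equiv.swap c' d')
    (hy : y * Equiv.swap b c * Equiv.swap d a = Equiv.swap b' c' * Equiv.swap d' a') :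
    ∃ z : Equiv.Perm α, z * z = 1 ∧
      (∀ v, v ≠ a → v ≠ b → v ≠ c → v ≠ d → v ≠ a' → v ≠ b' → v ≠ c' → v ≠ d' → z v = v) ∧
      Odd (orderOf (x * z)) ∧ Odd (orderOf (y * z)) := by
  obtain ⟨h1, h2, h3⟩ := c44 x y a b c d a' b' c' d' hnd hx hy
  refine ⟨_, h1, ?_, h2, h3⟩
  intro v ha hb hc hd ha' hb' hc' hd'
  simp [Equiv.swap_apply_of_ne_of_ne, ha, hb, hc, hd, ha', hb', hc', hd']

/-- a lone alternating 4-cycle `a b c d` together with a spare point `s`. -/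
theorem c4s {α : Type*} [DecidableEq α] (x y : Equiv.Perm α) (a b c d s : α)
    (hnd : [a, b, c, d, s].Nodup)
    (hx : x * Equiv.swap a b * Equiv.swap c d = 1)
    (hy : y * Equiv.swap b c * Equiv.swap d a = 1) :
    (Equiv.swap a s * Equiv.swap b d) * (Equiv.swap a s * Equiv.swap b d) = 1 ∧
    Odd (orderOf (x * (Equiv.swap a s * Equiv.swap b d))) ∧
    Odd (orderOf (y * (Equiv.swap a s * Equiv.swap b d))) := by
  have hinj : Function.Injective ![a, b, c, d, s] :=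
    List.nodup_ofFn.mp (by simpa [List.ofFn_succ] using hnd)
  have hxe : x = (Equiv.swap c d)⁻¹ * (Equiv.swap a b)⁻¹ := by
    have h : x = x * Equiv.swap a b * Equiv.swap c d * (Equiv.swap c d)⁻¹ * (Equiv.swap a b)⁻¹ := by
      group
    rw [h, hx, one_mul]
  have hye : y = (Equiv.swap d a)⁻¹ * (Equiv.swap b c)⁻¹ := by
    have h : y = y * Equiv.swap b c * Equiv.swap d a * (Equiv.swap d a)⁻¹ * (Equiv.swap b c)⁻¹ := by
      group
    rw [h, hy, one_mul]
  refine triple_of_words (⟨![a, b, c, d, s], hinj⟩ : Fin 5 ↪ α)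
    ((Equiv.swap 2 3)⁻¹ * (Equiv.swap 0 1)⁻¹)
    ((Equiv.swap 3 0)⁻¹ * (Equiv.swap 1 2)⁻¹)
    (Equiv.swap 0 4 * Equiv.swap 1 3) 5 (by decide)
    (by decide +kernel) (by decide +kernel) (by decide +kernel) _ _ _ ?_ ?_ ?_
  · rw [hxe]; simp [via_swap]
  · rw [hye]; simp [via_swap]
  · simp [via_swap]

end Cfsg.Agent.Lib.Helper9.InvLiftExc
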