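import Mathlib
import Cfsg.Agent.Lib.Helper6.OddInsert6

namespace Cfsg.Agent.Lib.Helper9.InvLiftM3c

/-- the 3-cycle `s → f1 → f2 → s` written as `swap s f2 * swap s f1` keeps odd order when
inserted after a permutation of odd order fixing `f1`, `f2`. -/
theorem ins {α : Type*} [Fintype α] [DecidableEq α] (σ : Equiv.Perm α) (s f1 f2 : α)
    (h1 : s ≠ f1) (h2 : s ≠ f2) (h3 : f1 ≠ f2) (hf1 : σ f1 = f1) (hf2 : σ f2 = f2)
    (hσ : Odd (orderOf σ)) :
    Odd (orderOf (σ * (Equiv.swap s f2 * Equiv.swap s f1))) := by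
  apply Cfsg.Agent.Lib.Helper6.OddIns.odd_mul_three σ _ s f1 f2 h1 h2 h3 hf1 hf2 _ _ _ _ hσ
  · rw [Equiv.Perm.mul_apply, Equiv.swap_apply_left, Equiv.swap_apply_of_ne_of_ne h1.symm h3]
  · rw [Equiv.Perm.mul_apply, Equiv.swap_apply_right, Equiv.swap_apply_left]
  · rw [Equiv.Perm.mul_apply, Equiv.swap_apply_of_ne_of_ne h2.symm h3.symm,
      Equiv.swap_apply_right]
  · intro v hvs hv1 hv2
    rw [Equiv.Perm.mul_apply, Equiv.swap_apply_of_ne_of_ne hvs hv1,
      Equiv.swap_apply_of_ne_of_ne hvs hv2]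

theorem m3c_core {α : Type*} [Fintype α] [DecidableEq α] (y z' : Equiv.Perm α)
    (a b c d p q : α) (hy : y * y = 1) (hz : z' * z' = 1)
    (hab : a ≠ b) (hac : a ≠ c) (had : a ≠ d) (hap : a ≠ p) (haq : a ≠ q)
    (hbc : b ≠ c) (hbd : b ≠ d) (hbp : b ≠ p) (hbq : b ≠ q)
    (hcd : c ≠ d) (hcp : c ≠ p) (hcq : c ≠ q) (hdp : d ≠ p) (hdq : d ≠ q) (hpq : p ≠ q)
    (hya : y a = p) (hyb : y b = c) (hyd : y d = q)
    (hza : z' a = a) (hzb : z' b = b) (hzc : z' c = c) (hzd : z' d = d)
    (hY : Odd (orderOf (y * Equiv.swap p a * Equiv.swap b c * Equiv.swap d q *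
      Equiv.swap p q * z'))) :
    Odd (orderOf (y * (z' * Equiv.swap a b * Equiv.swap c d))) := by
  have hyy : ∀ t, y (y t) = t := fun t => by
    have := congrArg (fun f : Equiv.Perm α => f t) hy
    simpa using this
  have hzz : ∀ t, z' (z' t) = t := fun t => by
    have := congrArg (fun f : Equiv.Perm α => f t) hz
    simpa using this
  have hyp : y p = a := by rw [← hya, hyy]
  have hyc : y c = b := by rw [← hyb, hyy]
  have hyq : y q = d := by rw [← hyd, hyy]
  obtain ⟨P, hP⟩ : ∃ P, P = z' p := ⟨_, rfl⟩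
  obtain ⟨Q, hQ⟩ : ∃ Q, Q = z' q := ⟨_, rfl⟩
  have hzP : z' P = p := by rw [hP, hzz]
  have hzQ : z' Q = q := by rw [hQ, hzz]
  have hPa : P ≠ a := fun h => hap (by rw [← hzP, h, hza])
  have hPb : P ≠ b := fun h => hbp (by rw [← hzP, h, hzb])
  have hPc : P ≠ c := fun h => hcp (by rw [← hzP, h, hzc])
  have hPd : P ≠ d := fun h => hdp (by rw [← hzP, h, hzd])
  have hQa : Q ≠ a := fun h => haq (by rw [← hzQ, h, hza])
  have hQb : Q ≠ b := fun h => hbq (by rw [← hzQ, h, hzb])
  have hQc : Q ≠ c := fun h => hcq (by rw [← hzQ, h, hzc])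
  have hQd : Q ≠ d := fun h => hdq (by rw [← hzQ, h, hzd])
  have hPQ : P ≠ Q := fun h => hpq (by rw [← hzP, h, hzQ])
  -- the reduced permutation fixes a b c d
  have hσa : (y * Equiv.swap p a * Equiv.swap b c * Equiv.swap d q * Equiv.swap p q * z') a
      = a := by
    simp only [Equiv.Perm.mul_apply]
    rw [hza, Equiv.swap_apply_of_ne_of_ne hap haq, Equiv.swap_apply_of_ne_of_ne had haq,
      Equiv.swap_apply_of_ne_of_ne hab hac, Equiv.swap_apply_right, hyp]
  have hσb : (y * Equiv.swap p a * Equiv.swap b c * Equiv.swap d q * Equiv.swap p q * z') b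
      = b := by
    simp only [Equiv.Perm.mul_apply]
    rw [hzb, Equiv.swap_apply_of_ne_of_ne hbp hbq, Equiv.swap_apply_of_ne_of_ne hbd hbq,
      Equiv.swap_apply_left, Equiv.swap_apply_of_ne_of_ne hcp hac.symm, hyc]
  have hσc : (y * Equiv.swap p a * Equiv.swap b c * Equiv.swap d q * Equiv.swap p q * z') c
      = c := by
    simp only [Equiv.Perm.mul_apply]
    rw [hzc, Equiv.swap_apply_of_ne_of_ne hcp hcq, Equiv.swap_apply_of_ne_of_ne hcd hcq,
      Equiv.swap_apply_right, Equiv.swap_apply_of_ne_of_ne hbp hab.symm, hyb]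
  have hσd : (y * Equiv.swap p a * Equiv.swap b c * Equiv.swap d q * Equiv.swap p q * z') d
      = d := by
    simp only [Equiv.Perm.mul_apply]
    rw [hzd, Equiv.swap_apply_of_ne_of_ne hdp hdq, Equiv.swap_apply_left,
      Equiv.swap_apply_of_ne_of_ne hbq.symm hcq.symm,
      Equiv.swap_apply_of_ne_of_ne hpq.symm haq.symm, hyq]
  have hid : y * (z' * Equiv.swap a b * Equiv.swap c d)
      = (y * Equiv.swap p a * Equiv.swap b c * Equiv.swap d q * Equiv.swap p q * z')
        * (Equiv.swap P c * Equiv.swap P a) * (Equiv.swap Q b * Equiv.swap Q d) := by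
    ext v
    simp only [Equiv.Perm.mul_apply]
    by_cases hva : v = a
    · rw [hva, Equiv.swap_apply_of_ne_of_ne hac had, Equiv.swap_apply_left, hzb, hyb,
        Equiv.swap_apply_of_ne_of_ne hQa.symm had, Equiv.swap_apply_of_ne_of_ne hQa.symm hab,
        Equiv.swap_apply_right, Equiv.swap_apply_left, hzc,
        Equiv.swap_apply_of_ne_of_ne hcp hcq, Equiv.swap_apply_of_ne_of_ne hcd hcq,
        Equiv.swap_apply_right, Equiv.swap_apply_of_ne_of_ne hbp hab.symm, hyb]
    by_cases hvb : v = b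
    · rw [hvb, Equiv.swap_apply_of_ne_of_ne hbc hbd, Equiv.swap_apply_right, hza, hya,
        Equiv.swap_apply_of_ne_of_ne hQb.symm hbd, Equiv.swap_apply_right,
        Equiv.swap_apply_of_ne_of_ne hPQ.symm hQa, Equiv.swap_apply_of_ne_of_ne hPQ.symm hQc,
        hzQ, Equiv.swap_apply_right, Equiv.swap_apply_of_ne_of_ne hdp.symm hpq,
        Equiv.swap_apply_of_ne_of_ne hbp.symm hcp.symm, Equiv.swap_apply_left, hya]
    by_cases hvc : v = c
    · rw [hvc, Equiv.swap_apply_left, Equiv.swap_apply_of_ne_of_ne had.symm hbd.symm, hzd, hyd,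
        Equiv.swap_apply_of_ne_of_ne hQc.symm hcd, Equiv.swap_apply_of_ne_of_ne hQc.symm hbc.symm,
        Equiv.swap_apply_of_ne_of_ne hPc.symm hac.symm, Equiv.swap_apply_right, hzP,
        Equiv.swap_apply_left, Equiv.swap_apply_right,
        Equiv.swap_apply_of_ne_of_ne hbd.symm hcd.symm,
        Equiv.swap_apply_of_ne_of_ne hdp had.symm, hyd]
    by_cases hvd : v = d
    · rw [hvd, Equiv.swap_apply_right, Equiv.swap_apply_of_ne_of_ne hac.symm hbc.symm, hzc, hyc,
        Equiv.swap_apply_right, Equiv.swap_apply_left,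
        Equiv.swap_apply_of_ne_of_ne hPb.symm hab.symm,
        Equiv.swap_apply_of_ne_of_ne hPb.symm hbc, hzb,
        Equiv.swap_apply_of_ne_of_ne hbp hbq, Equiv.swap_apply_of_ne_of_ne hbd hbq,
        Equiv.swap_apply_left, Equiv.swap_apply_of_ne_of_ne hcp hac.symm, hyc]
    by_cases hvP : v = P
    · rw [hvP, Equiv.swap_apply_of_ne_of_ne hPc hPd, Equiv.swap_apply_of_ne_of_ne hPa hPb, hzP,
        hyp, Equiv.swap_apply_of_ne_of_ne hPQ hPd, Equiv.swap_apply_of_ne_of_ne hPQ hPb,
        Equiv.swap_apply_left, Equiv.swap_apply_of_ne_of_ne hPa.symm hac, hza,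
        Equiv.swap_apply_of_ne_of_ne hap haq, Equiv.swap_apply_of_ne_of_ne had haq,
        Equiv.swap_apply_of_ne_of_ne hab hac, Equiv.swap_apply_right, hyp]
    by_cases hvQ : v = Q
    · rw [hvQ, Equiv.swap_apply_of_ne_of_ne hQc hQd, Equiv.swap_apply_of_ne_of_ne hQa hQb, hzQ,
        hyq, Equiv.swap_apply_left, Equiv.swap_apply_of_ne_of_ne hQd.symm hbd.symm,
        Equiv.swap_apply_of_ne_of_ne hPd.symm had.symm,
        Equiv.swap_apply_of_ne_of_ne hPd.symm hcd.symm, hzd,
        Equiv.swap_apply_of_ne_of_ne hdp hdq, Equiv.swap_apply_left,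
        Equiv.swap_apply_of_ne_of_ne hbq.symm hcq.symm,
        Equiv.swap_apply_of_ne_of_ne hpq.symm haq.symm, hyq]
    · have hwa : z' v ≠ a := fun h => hva (by rw [← hzz v, h, hza])
      have hwb : z' v ≠ b := fun h => hvb (by rw [← hzz v, h, hzb])
      have hwc : z' v ≠ c := fun h => hvc (by rw [← hzz v, h, hzc])
      have hwd : z' v ≠ d := fun h => hvd (by rw [← hzz v, h, hzd])
      have hwp : z' v ≠ p := fun h => hvP (by rw [← hzz v, h, hP])
      have hwq : z' v ≠ q := fun h => hvQ (by rw [← hzz v, h, hQ])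
      rw [Equiv.swap_apply_of_ne_of_ne hvc hvd, Equiv.swap_apply_of_ne_of_ne hva hvb,
        Equiv.swap_apply_of_ne_of_ne hvQ hvd, Equiv.swap_apply_of_ne_of_ne hvQ hvb,
        Equiv.swap_apply_of_ne_of_ne hvP hva, Equiv.swap_apply_of_ne_of_ne hvP hvc,
        Equiv.swap_apply_of_ne_of_ne hwp hwq, Equiv.swap_apply_of_ne_of_ne hwd hwq,
        Equiv.swap_apply_of_ne_of_ne hwb hwc, Equiv.swap_apply_of_ne_of_ne hwp hwa]
  rw [hid]
  have h1 : Odd (orderOf ((y * Equiv.swap p a * Equiv.swap b c * Equiv.swap d q *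
      Equiv.swap p q * z') * (Equiv.swap P c * Equiv.swap P a))) :=
    ins _ P a c hPa hPc hac hσa hσc hY
  have ht1d : (Equiv.swap P c * Equiv.swap P a) d = d := by
    rw [Equiv.Perm.mul_apply, Equiv.swap_apply_of_ne_of_ne hPd.symm had.symm,
      Equiv.swap_apply_of_ne_of_ne hPd.symm hcd.symm]
  have ht1b : (Equiv.swap P c * Equiv.swap P a) b = b := by
    rw [Equiv.Perm.mul_apply, Equiv.swap_apply_of_ne_of_ne hPb.symm hab.symm,
      Equiv.swap_apply_of_ne_of_ne hPb.symm hbc]
  refine ins _ Q d b hQd hQb hbd.symm ?_ ?_ h1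
  · rw [Equiv.Perm.mul_apply, ht1d, hσd]
  · rw [Equiv.Perm.mul_apply, ht1b, hσb]

/-- (M3c) lift, minimal hypotheses: `b = x a`, `c = y b`, `d = x c`, `p = y a`, `q = y d`,
with `x a ≠ a`, `x a ≠ y a`, `y b ≠ b`, `x c ≠ c`, `y a ≠ a`, `y d ≠ d`, `y d ≠ a`.
`z'` fixes `a b c d`; `x' = x * swap a b * swap c d`,
`y' = y * swap p a * swap b c * swap d q * swap p q`, `z = z' * swap a b * swap c d`. -/
theorem m3c_lift {α : Type*} [Fintype α] [DecidableEq α] (x y z' : Equiv.Perm α)
    (a b c d p q : α) (hx : x * x = 1) (hy : y * y = 1) (hz : z' * z' = 1)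
    (hxa : x a = b) (hyb : y b = c) (hxc : x c = d) (hya : y a = p) (hyd : y d = q)
    (hab : a ≠ b) (hbp : b ≠ p) (hbc : b ≠ c) (hcd : c ≠ d) (hap : a ≠ p) (hdq : d ≠ q)
    (haq : a ≠ q)
    (hza : z' a = a) (hzb : z' b = b) (hzc : z' c = c) (hzd : z' d = d)
    (hX : Odd (orderOf (x * Equiv.swap a b * Equiv.swap c d * z')))
    (hY : Odd (orderOf (y * Equiv.swap p a * Equiv.swap b c * Equiv.swap d q *
      Equiv.swap p q * z'))) :
    (z' * Equiv.swap a b * Equiv.swap c d) * (z' * Equiv.swap a b * Equiv.swap c d) = 1 ∧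
    Odd (orderOf (x * (z' * Equiv.swap a b * Equiv.swap c d))) ∧
    Odd (orderOf (y * (z' * Equiv.swap a b * Equiv.swap c d))) := by
  have hxx : ∀ t, x (x t) = t := fun t => by
    have := congrArg (fun f : Equiv.Perm α => f t) hx
    simpa using this
  have hyy : ∀ t, y (y t) = t := fun t => by
    have := congrArg (fun f : Equiv.Perm α => f t) hy
    simpa using this
  have hxb : x b = a := by rw [← hxa, hxx]
  have hxd : x d = c := by rw [← hxc, hxx]
  have hyp : y p = a := by rw [← hya, hyy]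
  have hyc : y c = b := by rw [← hyb, hyy]
  have hyq : y q = d := by rw [← hyd, hyy]
  have hac : a ≠ c := fun h => hbp (by rw [← hya, h, hyc])
  have had : a ≠ d := fun h => hbc (by rw [← hxa, h, hxd])
  have hbd : b ≠ d := fun h => hac (by rw [← hxb, h, hxd])
  have hcp : c ≠ p := fun h => hab (by rw [← hyp, ← h, hyc])
  have hdp : d ≠ p := fun h => haq (by rw [← hyd, h, hyp])
  have hbq : b ≠ q := fun h => hcd (by rw [← hyb, h, hyq])
  have hcq : c ≠ q := fun h => hbd (by rw [← hyc, h, hyq])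
  have hpq : p ≠ q := fun h => had (by rw [← hyp, h, hyq])
  -- z' commutes with swap a b and swap c d
  have hcab : z' * Equiv.swap a b = Equiv.swap a b * z' := by
    have h := Equiv.swap_apply_apply z' a b
    rw [hza, hzb] at h
    calc z' * Equiv.swap a b = (z' * Equiv.swap a b * z'⁻¹) * z' := by
          rw [inv_mul_cancel_right]
      _ = Equiv.swap a b * z' := by rw [← h]
  have hccd : z' * Equiv.swap c d = Equiv.swap c d * z' := by
    have h := Equiv.swap_apply_apply z' c d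
    rw [hzc, hzd] at h
    calc z' * Equiv.swap c d = (z' * Equiv.swap c d * z'⁻¹) * z' := by
          rw [inv_mul_cancel_right]
      _ = Equiv.swap c d * z' := by rw [← h]
  have hdisj : Equiv.swap a b * Equiv.swap c d = Equiv.swap c d * Equiv.swap a b :=
    (Equiv.Perm.disjoint_swap_swap (by
      simp only [List.nodup_cons, List.mem_cons, List.not_mem_nil, or_false, not_or,
        List.nodup_nil, and_true, not_false_eq_true]
      exact ⟨⟨hab, hac, had⟩, ⟨hbc, hbd⟩, hcd⟩)).commute.eq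
  refine ⟨?_, ?_, m3c_core y z' a b c d p q hy hz hab hac had hap haq hbc hbd hbp hbq hcd hcp
    hcq hdp hdq hpq hya hyb hyd hza hzb hzc hzd hY⟩
  · calc (z' * Equiv.swap a b * Equiv.swap c d) * (z' * Equiv.swap a b * Equiv.swap c d)
        = z' * Equiv.swap a b * (Equiv.swap c d * z') * Equiv.swap a b * Equiv.swap c d := by
          simp only [mul_assoc]
      _ = z' * Equiv.swap a b * (z' * Equiv.swap c d) * Equiv.swap a b * Equiv.swap c d := by
          rw [hccd]
      _ = z' * (Equiv.swap a b * z') * (Equiv.swap c d * Equiv.swap a b) * Equiv.swap c d := by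
          simp only [mul_assoc]
      _ = z' * (z' * Equiv.swap a b) * (Equiv.swap a b * Equiv.swap c d) * Equiv.swap c d := by
          rw [hcab, hdisj]
      _ = (z' * z') * (Equiv.swap a b * Equiv.swap a b) * (Equiv.swap c d * Equiv.swap c d) := by
          simp only [mul_assoc]
      _ = 1 := by rw [hz, Equiv.swap_mul_self, Equiv.swap_mul_self, one_mul, one_mul]
  · have e : x * (z' * Equiv.swap a b * Equiv.swap c d)
        = x * Equiv.swap a b * Equiv.swap c d * z' := by
      calc x * (z' * Equiv.swap a b * Equiv.swap c d)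
          = x * (z' * Equiv.swap a b) * Equiv.swap c d := by simp only [mul_assoc]
        _ = x * (Equiv.swap a b * z') * Equiv.swap c d := by rw [hcab]
        _ = x * Equiv.swap a b * (z' * Equiv.swap c d) := by simp only [mul_assoc]
        _ = x * Equiv.swap a b * (Equiv.swap c d * z') := by rw [hccd]
        _ = x * Equiv.swap a b * Equiv.swap c d * z' := by simp only [mul_assoc]
    rw [e]; exact hX

end Cfsg.Agent.Lib.Helper9.InvLiftM3c
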