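import Mathlib
import Cfsg.Agent.S1302
import Cfsg.Agent.Lib.Helper9.Signalizer

set_option autoImplicit false
open Cfsg

namespace Cfsg.Agent.Lib.Helper9

universe u

/-- General form of `S1302`: if `C(O_p(X̄)) ≤ O_p(X̄)` for `X̄ = X / O_{p'}(X)`, `p` odd, and `A` is a
`p`-subgroup containing every element of order `p` of `C_X(A)`, then every `A`-invariant
`p'`-subgroup of `X` lies in `O_{p'}(X)`. -/
theorem le_pPrimeCore_of_invariant {X : Type u} [Group X] [Finite X] (p : ℕ) [Fact p.Prime]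
    (hp : p ≠ 2)
    (hCP : Subgroup.centralizer ((pCore p (X ⧸ pPrimeCore p X) : Subgroup (X ⧸ pPrimeCore p X)) :
      Set (X ⧸ pPrimeCore p X)) ≤ pCore p (X ⧸ pPrimeCore p X))
    (A : Subgroup X) (hAp : IsPGroup p ↥A)
    (hΩ : ∀ x ∈ Subgroup.centralizer (A : Set X), orderOf x = p → x ∈ A)
    (Q : Subgroup X) (hQ : ¬ p ∣ Nat.card ↥Q) (hAQ : A ≤ Subgroup.normalizer (Q : Set X)) :
    Q ≤ pPrimeCore p X := by
  classical
  have hpp : p.Prime := Fact.out
  have hOcop := Cfsg.Agent.Lib.Helper9.pPrimeCore_coprime p X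
  have hQbar : Q.map (QuotientGroup.mk' (pPrimeCore p X)) = ⊥ := by
    apply Cfsg.Agent.S1302.core_case p hp (pCore p (X ⧸ pPrimeCore p X))
      (Cfsg.Agent.Lib.Helper9.pCore_isPGroup p _) hCP
      (A.map (QuotientGroup.mk' (pPrimeCore p X))) (hAp.map _) ?_
      (Q.map (QuotientGroup.mk' (pPrimeCore p X))) ?_ ?_
    · intro xb hxb hxo
      obtain ⟨g, rfl⟩ := QuotientGroup.mk'_surjective _ xb
      obtain ⟨u, hu, hc⟩ := Cfsg.Agent.Lib.Helper4.PPrimeQuot.cent_lift hOcop hAp g hxb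
      have hu1 : QuotientGroup.mk' (pPrimeCore p X) u = 1 := (QuotientGroup.eq_one_iff u).mpr hu
      have hπc : QuotientGroup.mk' (pPrimeCore p X) (u * g) =
          QuotientGroup.mk' (pPrimeCore p X) g := by
        rw [map_mul, hu1, one_mul]
      set c := u * g with hcdef
      set xb := QuotientGroup.mk' (pPrimeCore p X) g with hxbdef
      have hcpO : c ^ p ∈ pPrimeCore p X := by
        have h0 : xb ^ p = 1 := by
          have h00 := pow_orderOf_eq_one xb
          rwa [hxo] at h00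
        rw [← QuotientGroup.eq_one_iff, ← QuotientGroup.mk'_apply, map_pow, hπc]
        exact h0
      have hcpN : (c ^ p) ^ Nat.card ↥(pPrimeCore p X) = 1 := by
        have h1 := pow_card_eq_one' (G := ↥(pPrimeCore p X)) (x := ⟨c ^ p, hcpO⟩)
        exact congrArg Subtype.val h1
      obtain ⟨k, -, hk⟩ := Nat.exists_mul_mod_eq_one_of_coprime hOcop hpp.one_lt
      have hc'p : (c ^ (Nat.card ↥(pPrimeCore p X) * k)) ^ p = 1 := by
        rw [← pow_mul, mul_comm, pow_mul, pow_mul, hcpN, one_pow]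
      have hπc' : QuotientGroup.mk' (pPrimeCore p X) (c ^ (Nat.card ↥(pPrimeCore p X) * k)) =
          xb := by
        rw [map_pow, hπc, ← pow_mod_orderOf, hxo, hk, pow_one]
      have hc'1 : c ^ (Nat.card ↥(pPrimeCore p X) * k) ≠ 1 := by
        intro h1
        rw [h1, map_one] at hπc'
        have h2 : orderOf xb = 1 := by rw [← hπc']; exact orderOf_one
        rw [hxo] at h2
        exact hpp.one_lt.ne' h2
      have hc'A : c ^ (Nat.card ↥(pPrimeCore p X) * k) ∈ A :=
        hΩ _ (pow_mem hc _) (orderOf_eq_prime hc'p hc'1)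
      rw [← hπc']
      exact Subgroup.mem_map_of_mem _ hc'A
    · intro h
      exact hQ (h.trans (Subgroup.card_map_dvd _ _))
    · exact (Subgroup.map_mono hAQ).trans (Subgroup.le_normalizer_map _)
  intro q hq
  have h1 : QuotientGroup.mk' (pPrimeCore p X) q ∈ Q.map (QuotientGroup.mk' (pPrimeCore p X)) :=
    Subgroup.mem_map_of_mem _ hq
  rw [hQbar, Subgroup.mem_bot] at h1
  exact (QuotientGroup.eq_one_iff q).mp h1

/-- Adjoining a centralizing element of order dividing `p` to an elementary abelian `p`-subgroup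
gives an elementary abelian `p`-subgroup. -/
theorem isElementaryAbelian_sup_zpowers {X : Type u} [Group X] (p : ℕ)
    {E : Subgroup X} (hE : IsElementaryAbelian p E) {x : X}
    (hx : x ∈ Subgroup.centralizer (E : Set X)) (hxp : x ^ p = 1) :
    IsElementaryAbelian p (E ⊔ Subgroup.zpowers x) := by
  haveI := hE.1
  have hzc : ∀ y ∈ Subgroup.zpowers x, ∀ e ∈ E, e * y = y * e := by
    intro y hy e he
    obtain ⟨k, rfl⟩ := hy
    have h1 : Commute e x := Subgroup.mem_centralizer_iff.mp hx e he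
    exact (h1.zpow_right k).eq
  have hzp : ∀ y ∈ Subgroup.zpowers x, y ^ p = 1 := by
    intro y hy
    obtain ⟨k, rfl⟩ := hy
    show (x ^ k) ^ p = 1
    rw [← zpow_natCast, ← zpow_mul, mul_comm, zpow_mul, zpow_natCast, hxp, one_zpow]
  have hzz : ∀ y ∈ Subgroup.zpowers x, ∀ z ∈ Subgroup.zpowers x, y * z = z * y := by
    intro y hy z hz
    obtain ⟨k, rfl⟩ := hy
    obtain ⟨l, rfl⟩ := hz
    exact ((Commute.refl x).zpow_zpow k l).eq
  have hn : Subgroup.zpowers x ≤ Subgroup.normalizer (E : Set X) := by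
    apply Cfsg.Agent.Lib.Helper9.le_normalizer_of_forall_conj_mem
    intro b hb u hu
    have h1 := hzc b hb u hu
    have h2 : b * u * b⁻¹ = u := by rw [← h1]; group
    rw [h2]; exact hu
  have hdec : ∀ g ∈ E ⊔ Subgroup.zpowers x, ∃ e ∈ E, ∃ y ∈ Subgroup.zpowers x, g = e * y :=
    fun g hg => Cfsg.Agent.Lib.Helper9.exists_mul_of_mem_sup_of_le_normalizer hn hg
  refine ⟨⟨⟨fun a b => ?_⟩⟩, fun g hg => ?_⟩
  · obtain ⟨e₁, he₁, y₁, hy₁, h₁⟩ := hdec a.1 a.2
    obtain ⟨e₂, he₂, y₂, hy₂, h₂⟩ := hdec b.1 b.2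
    apply Subtype.ext
    show a.1 * b.1 = b.1 * a.1
    rw [h₁, h₂]
    have c1 : e₁ * e₂ = e₂ * e₁ := setLike_mul_comm he₁ he₂
    have c2 := hzc y₁ hy₁ e₂ he₂
    have c3 := hzc y₂ hy₂ e₁ he₁
    have c4 := hzz y₁ hy₁ y₂ hy₂
    calc e₁ * y₁ * (e₂ * y₂) = e₁ * (y₁ * e₂) * y₂ := by group
      _ = e₁ * (e₂ * y₁) * y₂ := by rw [c2]
      _ = (e₁ * e₂) * (y₁ * y₂) := by group
      _ = (e₂ * e₁) * (y₂ * y₁) := by rw [c1, c4]
      _ = e₂ * (e₁ * y₂) * y₁ := by group
      _ = e₂ * (y₂ * e₁) * y₁ := by rw [c3]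
      _ = e₂ * y₂ * (e₁ * y₁) := by group
  · obtain ⟨e, he, y, hy, rfl⟩ := hdec g hg
    have hc : Commute e y := hzc y hy e he
    rw [hc.mul_pow, hE.2 e he, hzp y hy, one_mul]

/-- A maximal (under inclusion) elementary abelian `p`-subgroup contains every element of order
`p` of its centralizer. -/
theorem mem_of_maximal_elementaryAbelian {X : Type u} [Group X] (p : ℕ)
    {E : Subgroup X} (hE : IsElementaryAbelian p E)
    (hEmax : ∀ B : Subgroup X, IsElementaryAbelian p B → E ≤ B → B = E) :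
    ∀ x ∈ Subgroup.centralizer (E : Set X), orderOf x = p → x ∈ E := by
  intro x hx hxo
  have hxp : x ^ p = 1 := by rw [← hxo]; exact pow_orderOf_eq_one x
  have hB := isElementaryAbelian_sup_zpowers p hE hx hxp
  have hBE := hEmax _ hB le_sup_left
  have hxB : x ∈ E ⊔ Subgroup.zpowers x :=
    (le_sup_right : Subgroup.zpowers x ≤ E ⊔ Subgroup.zpowers x) (Subgroup.mem_zpowers x)
  rw [hBE] at hxB
  exact hxB

end Cfsg.Agent.Lib.Helper9
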