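import Mathlib
import Cfsg.Prelude.Def_PLocal
import Cfsg.Prelude.Def_LocalEven
import Cfsg.Agent.Lib.Helper13.QdAlt

/-!
# Building `Qd(p)` sections (helper9)

* `Onto Y G`: some subgroup of `G` maps onto `Y` (equivalent to `Cfsg.Involves Y G`).
* `aff A c`: the affine matrix in `Cfsg.qd p` with linear part `A` and translation `c`.
* `onto_qd_of_compat`, `onto_qd`: a group acting on an abelian `p`-subgroup `V₀` and inducing
  `SL₂(p)` on a quotient plane of `V₀` yields a subgroup mapping onto `Qd(p)`.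
-/

set_option autoImplicit false
open scoped MatrixGroups

namespace Cfsg.Agent.Lib.Helper9.QdBuild

open Cfsg

/-- some subgroup of `G` maps onto `Y` -/
def Onto (Y : Type*) [Group Y] (G : Type*) [Group G] : Prop :=
  ∃ (K : Subgroup G) (φ : ↥K →* Y), Function.Surjective φ

theorem Onto.of_surjective {Y G G' : Type*} [Group Y] [Group G] [Group G'] (f : G →* G')
    (hf : Function.Surjective f) (h : Onto Y G') : Onto Y G := by
  obtain ⟨K', φ', hφ'⟩ := h
  refine ⟨K'.comap f, φ'.comp (f.subgroupComap K'), hφ'.comp ?_⟩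
  rintro ⟨y, hy⟩
  obtain ⟨x, rfl⟩ := hf y
  exact ⟨⟨x, hy⟩, rfl⟩

theorem Onto.of_injective {Y G G' : Type*} [Group Y] [Group G] [Group G'] (f : G →* G')
    (hf : Function.Injective f) (h : Onto Y G) : Onto Y G' := by
  obtain ⟨K, φ, hφ⟩ := h
  exact ⟨K.map f, φ.comp (K.equivMapOfInjective f hf).symm.toMonoidHom,
    hφ.comp (MulEquiv.surjective _)⟩

theorem Onto.involves {Y G : Type*} [Group Y] [Group G] (h : Onto Y G) : Cfsg.Involves Y G := by
  obtain ⟨K, φ, hφ⟩ := h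
  have heq : (φ.ker.map K.subtype).subgroupOf K = φ.ker := by
    ext x
    rw [Subgroup.mem_subgroupOf]
    constructor
    · rintro ⟨y, hy, hyx⟩
      have : y = x := Subtype.ext hyx
      rwa [← this]
    · intro hx
      exact ⟨x, hx, rfl⟩
  have hn : ((φ.ker.map K.subtype).subgroupOf K).Normal := by rw [heq]; infer_instance
  exact ⟨K, φ.ker.map K.subtype, hn, ⟨(QuotientGroup.quotientMulEquivOfEq heq).trans
    (QuotientGroup.quotientKerEquivOfSurjective φ hφ)⟩⟩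

theorem Onto.of_involves {Y G : Type*} [Group Y] [Group G] (h : Cfsg.Involves Y G) :
    Onto Y G := by
  obtain ⟨K, R, hR, ⟨e⟩⟩ := h
  exact ⟨K, e.toMonoidHom.comp (QuotientGroup.mk' (R.subgroupOf K)),
    e.surjective.comp (QuotientGroup.mk'_surjective _)⟩

/-- a surjection that kills the kernel of a map into `G` descends to the image -/
theorem Onto.of_ker_le {S G Y : Type*} [Group S] [Group G] [Group Y] (j : S →* G) (q : S →* Y)
    (hq : Function.Surjective q) (hker : j.ker ≤ q.ker) : Onto Y G := by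
  have hjs : Function.Surjective j.rangeRestrict := j.rangeRestrict_surjective
  have hker' : j.rangeRestrict.ker ≤ q.ker := by
    rw [MonoidHom.ker_rangeRestrict]
    exact hker
  refine ⟨j.range, j.rangeRestrict.liftOfRightInverse (Function.surjInv hjs)
    (Function.rightInverse_surjInv hjs) ⟨q, hker'⟩, ?_⟩
  intro y
  obtain ⟨x, rfl⟩ := hq y
  exact ⟨j.rangeRestrict x, MonoidHom.liftOfRightInverse_comp_apply _ _ _ ⟨q, hker'⟩ x⟩

section affine

variable {p : ℕ}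

/-- the affine matrix with linear part `A` and translation `c` -/
def aff (A : Matrix.SpecialLinearGroup (Fin 2) (ZMod p)) (c : Fin 2 → ZMod p) :
    Matrix.SpecialLinearGroup (Fin 3) (ZMod p) :=
  ⟨!![A.1 0 0, A.1 0 1, c 0; A.1 1 0, A.1 1 1, c 1; 0, 0, 1], by
    have h := A.2
    rw [Matrix.det_fin_two] at h
    rw [Matrix.det_fin_three]
    simp
    linear_combination h⟩

theorem aff_mul (A A' : Matrix.SpecialLinearGroup (Fin 2) (ZMod p)) (c c' : Fin 2 → ZMod p) :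
    aff A c * aff A' c' = aff (A * A') (c + A.1.mulVec c') := by
  apply Subtype.ext
  show (aff A c).1 * (aff A' c').1 = (aff (A * A') (c + A.1.mulVec c')).1
  unfold aff
  ext i j
  fin_cases i <;> fin_cases j <;>
    simp [Matrix.mul_apply, Fin.sum_univ_three, Matrix.mulVec, dotProduct, Fin.sum_univ_two] <;>
    ring

theorem aff_one : aff (1 : Matrix.SpecialLinearGroup (Fin 2) (ZMod p)) 0 = 1 := by
  apply Subtype.ext
  show (aff (1 : Matrix.SpecialLinearGroup (Fin 2) (ZMod p)) 0).1 = 1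
  unfold aff
  ext i j
  fin_cases i <;> fin_cases j <;> simp

theorem aff_mem (A : Matrix.SpecialLinearGroup (Fin 2) (ZMod p)) (c : Fin 2 → ZMod p) :
    aff A c ∈ Cfsg.qd p := by
  rw [Cfsg.Agent.Lib.Helper13.QdAlt.mem_qd_iff]
  simp [aff]

theorem exists_aff (M : Matrix.SpecialLinearGroup (Fin 3) (ZMod p)) (hM : M ∈ Cfsg.qd p) :
    ∃ A c, M = aff A c := by
  obtain ⟨h0, h1, h2⟩ := (Cfsg.Agent.Lib.Helper13.QdAlt.mem_qd_iff M).mp hM
  have hdet := M.2
  rw [Matrix.det_fin_three, h0, h1, h2] at hdet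
  refine ⟨⟨!![M.1 0 0, M.1 0 1; M.1 1 0, M.1 1 1], ?_⟩, ![M.1 0 2, M.1 1 2], ?_⟩
  · rw [Matrix.det_fin_two_of]
    linear_combination hdet
  · apply Subtype.ext
    show M.1 = (aff _ _).1
    unfold aff
    ext i j
    fin_cases i <;> fin_cases j <;> simp [h0, h1, h2]

end affine


/-- semidirect-product construction: a group `Mg` acting on `V₀` (through `ι`) and on the plane
`𝔽_p²` (through `ρ`, onto `SL₂(p)`) compatibly with an additive surjection `θ₀ : V₀ → 𝔽_p²`,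
such that elements of `Mg` landing in `V₀` are killed, gives a subgroup mapping onto `Qd(p)`. -/
theorem onto_qd_of_compat {G : Type*} [Group G] {Mg : Type*} [Group Mg] {p : ℕ}
    (V₀ : Subgroup G) (ι : Mg →* G)
    (hnorm : ∀ m, ∀ v ∈ V₀, ι m * v * (ι m)⁻¹ ∈ V₀)
    (ρ : Mg →* Matrix.SpecialLinearGroup (Fin 2) (ZMod p)) (hρ : Function.Surjective ρ)
    (θ₀ : ↥V₀ → Fin 2 → ZMod p)
    (hθadd : ∀ x y, θ₀ (x * y) = θ₀ x + θ₀ y)
    (hθs : Function.Surjective θ₀)
    (heq : ∀ (m : Mg) (v : ↥V₀),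
      θ₀ ⟨ι m * v * (ι m)⁻¹, hnorm m v v.2⟩ = (ρ m).1.mulVec (θ₀ v))
    (hcompat : ∀ m (hm : ι m ∈ V₀), ρ m = 1 ∧ θ₀ ⟨ι m, hm⟩ = 0) :
    Onto ↥(Cfsg.qd p) G := by
  have hnorm' : ∀ m, ∀ v ∈ V₀, (ι m)⁻¹ * v * ι m ∈ V₀ := by
    intro m v hv
    have := hnorm m⁻¹ v hv
    simpa using this
  obtain ⟨φ, hφ⟩ : ∃ φ : Mg →* MulAut ↥V₀, ∀ m (v : ↥V₀),
      ((φ m v : ↥V₀) : G) = ι m * v * (ι m)⁻¹ := by
    let c : Mg → MulAut ↥V₀ := fun m =>
      { toFun := fun v => ⟨ι m * v * (ι m)⁻¹, hnorm m v v.2⟩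
        invFun := fun v => ⟨(ι m)⁻¹ * v * ι m, hnorm' m v v.2⟩
        left_inv := fun v => Subtype.ext (by simp [mul_assoc])
        right_inv := fun v => Subtype.ext (by simp [mul_assoc])
        map_mul' := fun v w => Subtype.ext (by simp [mul_assoc]) }
    refine ⟨MonoidHom.mk' c ?_, fun m v => rfl⟩
    intro a b
    ext v
    show ι (a * b) * v * (ι (a * b))⁻¹ = ι a * (ι b * v * (ι b)⁻¹) * (ι a)⁻¹
    simp [mul_assoc]
  have hθ1 : θ₀ 1 = 0 := by
    have h := hθadd 1 1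
    rw [mul_one] at h
    have h2 : θ₀ 1 + 0 = θ₀ 1 + θ₀ 1 := by rw [add_zero]; exact h
    exact (add_left_cancel h2).symm
  have heq' : ∀ (m : Mg) (v : ↥V₀), θ₀ (φ m v) = (ρ m).1.mulVec (θ₀ v) := by
    intro m v
    rw [← heq m v]
    congr 1
    exact Subtype.ext (hφ m v)
  let j : ↥V₀ ⋊[φ] Mg →* G := MonoidHom.mk' (fun x => (x.left : G) * ι x.right) (by
    intro x y
    simp only [SemidirectProduct.mul_left, SemidirectProduct.mul_right, Subgroup.coe_mul,
      map_mul, hφ]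
    simp [mul_assoc])
  let q : ↥V₀ ⋊[φ] Mg →* ↥(Cfsg.qd p) :=
    MonoidHom.mk' (fun x => ⟨aff (ρ x.right) (θ₀ x.left), aff_mem _ _⟩) (by
      intro x y
      apply Subtype.ext
      show aff (ρ (x * y).right) (θ₀ (x * y).left)
        = aff (ρ x.right) (θ₀ x.left) * aff (ρ y.right) (θ₀ y.left)
      rw [aff_mul, SemidirectProduct.mul_left, SemidirectProduct.mul_right, map_mul, hθadd,
        heq'])
  refine Onto.of_ker_le j q ?_ ?_
  · rintro ⟨M, hM⟩
    obtain ⟨A, c, rfl⟩ := exists_aff M hM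
    obtain ⟨m, rfl⟩ := hρ A
    obtain ⟨v, rfl⟩ := hθs c
    exact ⟨⟨v, m⟩, rfl⟩
  · intro x hx
    rw [MonoidHom.mem_ker] at hx ⊢
    have hx' : (x.left : G) * ι x.right = 1 := hx
    have hm : ι x.right ∈ V₀ := by
      have h2 : ι x.right = ((x.left)⁻¹ : ↥V₀) := by
        rw [Subgroup.coe_inv]
        exact eq_inv_of_mul_eq_one_right hx'
      rw [h2]
      exact (x.left⁻¹).2
    obtain ⟨h1, h2⟩ := hcompat x.right hm
    have h3 : x.left * ⟨ι x.right, hm⟩ = 1 := Subtype.ext hx'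
    have h4 : θ₀ x.left = 0 := by
      have h5 := hθadd x.left ⟨ι x.right, hm⟩
      rw [h3, hθ1, h2, add_zero] at h5
      exact h5.symm
    apply Subtype.ext
    show aff (ρ x.right) (θ₀ x.left) = 1
    rw [h1, h4, aff_one]


/-- the general construction: a finite group `Kg` normalizing (through `ι`) an elementary abelian
`p`-subgroup `V₀` of `G` and inducing `SL₂(p)` on a quotient plane of `V₀` (`p` odd) yields a
subgroup of `G` mapping onto `Qd(p)`.  The compatibility needed by `onto_qd_of_compat` is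
obtained by passing to the normalizer of a Sylow `2`-subgroup of the preimage of `{±1}`. -/
theorem onto_qd {G : Type*} [Group G] {Kg : Type*} [Group Kg] [Finite Kg] {p : ℕ}
    [Fact p.Prime] (hp : p ≠ 2) (V₀ : Subgroup G)
    (hV₀c : ∀ x ∈ V₀, ∀ y ∈ V₀, x * y = y * x) (hV₀p : ∀ v ∈ V₀, v ^ p = 1)
    (ι : Kg →* G)
    (hnorm : ∀ m, ∀ v ∈ V₀, ι m * v * (ι m)⁻¹ ∈ V₀)
    (ρ : Kg →* Matrix.SpecialLinearGroup (Fin 2) (ZMod p)) (hρ : Function.Surjective ρ)
    (θ₀ : ↥V₀ → Fin 2 → ZMod p)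
    (hθadd : ∀ x y, θ₀ (x * y) = θ₀ x + θ₀ y)
    (hθs : Function.Surjective θ₀)
    (heq : ∀ (m : Kg) (v : ↥V₀),
      θ₀ ⟨ι m * v * (ι m)⁻¹, hnorm m v v.2⟩ = (ρ m).1.mulVec (θ₀ v)) :
    Onto ↥(Cfsg.qd p) G := by
  have hpp : p.Prime := Fact.out
  have h2ne : (2 : ZMod p) ≠ 0 := by
    intro h
    have h' : ((2 : ℕ) : ZMod p) = 0 := by exact_mod_cast h
    rw [ZMod.natCast_eq_zero_iff] at h'
    exact hp ((Nat.prime_dvd_prime_iff_eq hpp Nat.prime_two).mp h')
  -- the preimage of `{±1}`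
  let D : Subgroup Kg :=
    { carrier := {k | ρ k = 1 ∨ ρ k = -1}
      mul_mem' := by
        intro a b ha hb
        rcases ha with ha | ha <;> rcases hb with hb | hb
        · left; rw [map_mul, ha, hb, mul_one]
        · right; rw [map_mul, ha, hb, one_mul]
        · right; rw [map_mul, ha, hb, mul_one]
        · left; rw [map_mul, ha, hb]; simp
      one_mem' := Or.inl (map_one ρ)
      inv_mem' := by
        intro a ha
        rcases ha with ha | ha
        · left; rw [map_inv, ha, inv_one]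
        · right; rw [map_inv, ha]; simp }
  have hDmem : ∀ k, k ∈ D ↔ (ρ k = 1 ∨ ρ k = -1) := fun k => Iff.rfl
  have hDn : D.Normal := by
    refine ⟨fun n hn g => ?_⟩
    rw [hDmem] at hn ⊢
    rcases hn with hn | hn
    · left; rw [map_mul, map_mul, hn, map_inv]; simp
    · right; rw [map_mul, map_mul, hn, map_inv]; simp
  -- a `2`-element `z` with `ρ z = -1`
  obtain ⟨z₀, hz₀⟩ := hρ (-1)
  obtain ⟨k, m, hm, hkm⟩ := Nat.exists_eq_two_pow_mul_odd (orderOf_pos z₀).ne'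
  have hzρ : ρ (z₀ ^ m) = -1 := by rw [map_pow, hz₀, hm.neg_one_pow]
  have hz2 : (z₀ ^ m) ^ 2 ^ k = 1 := by
    rw [← pow_mul, mul_comm, ← hkm, pow_orderOf_eq_one]
  have hzD : z₀ ^ m ∈ D := Or.inr hzρ
  have hzp : IsPGroup 2 (Subgroup.zpowers (⟨z₀ ^ m, hzD⟩ : ↥D)) := by
    rintro ⟨g, hg⟩
    obtain ⟨i, rfl⟩ := Subgroup.mem_zpowers_iff.mp hg
    refine ⟨k, Subtype.ext ?_⟩
    have h1 : ((⟨z₀ ^ m, hzD⟩ : ↥D) ^ i) ^ 2 ^ k = 1 := by
      rw [← zpow_natCast, ← zpow_mul, mul_comm, zpow_mul, zpow_natCast]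
      have h2 : (⟨z₀ ^ m, hzD⟩ : ↥D) ^ 2 ^ k = 1 := Subtype.ext (by
        rw [Subgroup.coe_pow]; exact hz2)
      rw [h2, one_zpow]
    exact h1
  obtain ⟨T, hT⟩ := hzp.exists_le_sylow
  have hzT : (⟨z₀ ^ m, hzD⟩ : ↥D) ∈ (T : Subgroup ↥D) := hT (Subgroup.mem_zpowers _)
  have hfr := Sylow.normalizer_sup_eq_top T
  set T' : Subgroup Kg := Subgroup.map D.subtype ↑T with hT'
  have hzT' : z₀ ^ m ∈ T' := ⟨⟨z₀ ^ m, hzD⟩, hzT, rfl⟩
  have hT'2 : ∀ y ∈ T', ∃ n : ℕ, y ^ 2 ^ n = 1 := by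
    rintro y ⟨d, hd, rfl⟩
    obtain ⟨n, hn⟩ := T.isPGroup' ⟨d, hd⟩
    refine ⟨n, ?_⟩
    have := congrArg (fun t : ↥(T : Subgroup ↥D) => ((t : ↥D) : Kg)) hn
    simpa using this
  set M' : Subgroup Kg := Subgroup.normalizer (T' : Set Kg) with hM'
  have hzM' : z₀ ^ m ∈ M' := Subgroup.le_normalizer hzT'
  refine onto_qd_of_compat V₀ (ι.comp M'.subtype) (fun m v hv => hnorm m.1 v hv)
    (ρ.comp M'.subtype) ?_ θ₀ hθadd hθs (fun m v => heq m.1 v) ?_
  · intro A
    obtain ⟨x, rfl⟩ := hρ A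
    have hx : x ∈ ((M' ⊔ D : Subgroup Kg) : Set Kg) := by
      rw [hfr]; trivial
    rw [Subgroup.mul_normal] at hx
    obtain ⟨n, hn, d, hd, rfl⟩ := hx
    rcases hd with hd | hd
    · refine ⟨⟨n, hn⟩, ?_⟩
      show ρ n = ρ (n * d)
      rw [map_mul, hd, mul_one]
    · refine ⟨⟨n * z₀ ^ m, M'.mul_mem hn hzM'⟩, ?_⟩
      show ρ (n * z₀ ^ m) = ρ (n * d)
      rw [map_mul, map_mul, hd, hzρ]
  · rintro ⟨x, hxM⟩ hxV
    have hxV' : ι x ∈ V₀ := hxV
    constructor
    · have hfix : ∀ c, (ρ x).1.mulVec c = c := by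
        intro c
        obtain ⟨v, rfl⟩ := hθs c
        rw [← heq x v]
        congr 1
        apply Subtype.ext
        show ι x * v * (ι x)⁻¹ = v
        rw [hV₀c _ hxV' _ v.2, mul_inv_cancel_right]
      apply Subtype.ext
      show (ρ x).1 = 1
      ext i j
      have := congrFun (hfix (Pi.single j 1)) i
      simpa [Matrix.mulVec_single, Matrix.one_apply, Pi.single_apply, eq_comm] using this
    · -- the commutator `[x, z]` is a `2`-element mapping into `V₀`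
      set z := z₀ ^ m with hz
      have hy : x * z * x⁻¹ * z⁻¹ ∈ T' := by
        have h1 : x * z * x⁻¹ ∈ T' := (Subgroup.mem_normalizer_iff.mp hxM z).mp hzT'
        exact T'.mul_mem h1 (T'.inv_mem hzT')
      obtain ⟨n, hn⟩ := hT'2 _ hy
      have hιy : ι (x * z * x⁻¹ * z⁻¹) ∈ V₀ := by
        have h1 : ι z * (ι x)⁻¹ * (ι z)⁻¹ ∈ V₀ := hnorm z _ (V₀.inv_mem hxV')
        have h2 : ι (x * z * x⁻¹ * z⁻¹) = ι x * (ι z * (ι x)⁻¹ * (ι z)⁻¹) := by
          simp [mul_assoc]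
        rw [h2]
        exact V₀.mul_mem hxV' h1
      have hιy1 : ι (x * z * x⁻¹ * z⁻¹) = 1 := by
        have h1 : orderOf (ι (x * z * x⁻¹ * z⁻¹)) ∣ p := orderOf_dvd_of_pow_eq_one (hV₀p _ hιy)
        have h2 : orderOf (ι (x * z * x⁻¹ * z⁻¹)) ∣ 2 ^ n := by
          apply orderOf_dvd_of_pow_eq_one
          rw [← map_pow, hn, map_one]
        have hcop : Nat.Coprime p (2 ^ n) := by
          apply Nat.Coprime.pow_right
          rw [Nat.coprime_primes hpp Nat.prime_two]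
          exact hp
        have h3 : orderOf (ι (x * z * x⁻¹ * z⁻¹)) ∣ 1 := by
          have := Nat.dvd_gcd h1 h2
          rwa [hcop.gcd_eq_one] at this
        exact orderOf_eq_one_iff.mp (Nat.dvd_one.mp h3)
      have hcomm : ι z * ι x * (ι z)⁻¹ = ι x := by
        have h2 : ι (x * z * x⁻¹ * z⁻¹) = ι x * ι z * (ι x)⁻¹ * (ι z)⁻¹ := by
          simp
        rw [h2] at hιy1
        have h3 : ι x * ι z = ι z * ι x := by
          have h4 := congrArg (fun t => t * ι z * ι x) hιy1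
          simpa [mul_assoc] using h4
        rw [← h3, mul_inv_cancel_right]
      have h5 := heq z ⟨ι x, hxV'⟩
      have h6 : (⟨ι z * (⟨ι x, hxV'⟩ : ↥V₀) * (ι z)⁻¹, hnorm z _ hxV'⟩ : ↥V₀) = ⟨ι x, hxV'⟩ :=
        Subtype.ext hcomm
      rw [h6, hzρ] at h5
      have h7 : θ₀ ⟨ι x, hxV'⟩ = - θ₀ ⟨ι x, hxV'⟩ :=
        h5.trans (by simp [Matrix.neg_mulVec])
      show θ₀ ⟨ι x, hxV'⟩ = 0
      funext i
      have h8 := congrFun h7 i
      rw [Pi.neg_apply] at h8
      have h9 : (2 : ZMod p) * θ₀ ⟨ι x, hxV'⟩ i = 0 := by linear_combination h8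
      rcases mul_eq_zero.mp h9 with h | h
      · exact absurd h h2ne
      · exact h

end Cfsg.Agent.Lib.Helper9.QdBuild
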