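import Mathlib
import Cfsg.Prelude.Def_LocalEven
import Cfsg.Agent.Lib.Helper9.QuadMod
import Cfsg.Agent.Lib.Helper9.DicksonMod
import Cfsg.Agent.Lib.Helper9.QdBuild
import Cfsg.Agent.Lib.Helper9.PStab

/-!
# `Qd(p)`-free groups are `p`-stable, with all their sections (helper9)

* `pair_bridge_qd`: two quadratic elements on an elementary abelian `p`-group `V` (`p` odd)
  either generate a group acting as a `p`-group, or `G` has a subgroup mapping onto `Qd(p)`.
* `pstab_normal_qd`, `pstab_normalizer_qd`: the resulting `p`-stability statements.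
* `pstable_of_qd_free`, `sections_pstable_of_qd_free`: a finite group not involving `Qd(p)`
  (`p` odd) is `p`-stable in the normalizer form, and so is each of its sections.
-/

set_option autoImplicit false
open scoped MatrixGroups

namespace Cfsg.Agent.Lib.Helper9.QdStab

open Cfsg Cfsg.Agent.Lib.Lead.QuadCore Cfsg.Agent.Lib.Lead.QuadBridge
open Cfsg.Agent.Lib.Helper9.QdBuild

variable {G : Type*} [Group G]

/-- **Two quadratic elements: `p`-group or `Qd(p)`.** -/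
theorem pair_bridge_qd [Finite G] (p : ℕ) [Fact p.Prime] (hp2 : p ≠ 2)
    (V : Subgroup G) (hVc : IsMulCommutative V) (hVp : ∀ v ∈ V, v ^ p = 1) (a b : G)
    (ha : a ∈ Subgroup.normalizer (V : Set G)) (hb : b ∈ Subgroup.normalizer (V : Set G))
    (hqa : Quad V a) (hqb : Quad V b) :
    (∀ k ∈ Subgroup.closure ({a, b} : Set G),
      ∃ j : ℕ, k ^ p ^ j ∈ Subgroup.centralizer (V : Set G)) ∨
    Onto ↥(Cfsg.qd p) G := by
  have hKN : Subgroup.closure ({a, b} : Set G) ≤ Subgroup.normalizer (V : Set G) := by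
    rw [Subgroup.closure_le]
    rintro x (rfl | rfl)
    · exact ha
    · exact hb
  let φ : Subgroup.closure ({a, b} : Set G) →* AddMonoid.End (AV V hVc) :=
    (conjEnd V hVc).comp (Subgroup.inclusion hKN)
  have hW : ∀ w : AV V hVc, p • w = 0 := by
    intro w
    refine AV_ext V hVc _ _ ?_
    rw [ofAV_nsmul_coe, hVp _ (ofAV V hVc w).2]; rfl
  let a' : Subgroup.closure ({a, b} : Set G) := ⟨a, Subgroup.subset_closure (by simp)⟩
  let b' : Subgroup.closure ({a, b} : Set G) := ⟨b, Subgroup.subset_closure (by simp)⟩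
  have hab : Subgroup.closure ({a', b'} : Set (Subgroup.closure ({a, b} : Set G))) = ⊤ := by
    apply Subgroup.map_injective (Subgroup.closure ({a, b} : Set G)).subtype_injective
    rw [MonoidHom.map_closure, Set.image_pair, ← MonoidHom.range_eq_map, Subgroup.range_subtype]
    rfl
  have hqa' : (φ a' - 1) * (φ a' - 1) = 0 := conjEnd_quad V hVc ⟨a, ha⟩ hqa
  have hqb' : (φ b' - 1) * (φ b' - 1) = 0 := conjEnd_quad V hVc ⟨b, hb⟩ hqb
  rcases Cfsg.Agent.Lib.Helper9.QuadMod.quad_pair_mod p hW φ a' b' hab hqa' hqb' with key | key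
  · left
    intro k hk
    obtain ⟨j, hj⟩ := key ⟨k, hk⟩
    refine ⟨j, ?_⟩
    rw [← map_pow] at hj
    rw [Subgroup.mem_centralizer_iff]
    intro v hv
    have h1 := congrArg (fun f : AddMonoid.End (AV V hVc) =>
      (ofAV V hVc (f (toAV V hVc ⟨v, hv⟩)) : G)) hj
    have h2 : k ^ p ^ j * v * (k ^ p ^ j)⁻¹ = v := h1
    calc v * k ^ p ^ j = (k ^ p ^ j * v * (k ^ p ^ j)⁻¹) * k ^ p ^ j := by rw [h2]
      _ = k ^ p ^ j * v := by group
  · right
    obtain ⟨E, _, _, _, γ, ψ, hγ, hψa, hψb, M₁, θ, hθadd, hθs, hinv⟩ := key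
    have hψa' : ψ a' = tU 1 := Units.ext hψa
    have hψb' : ψ b' = tV γ := Units.ext hψb
    have hL : ψ.range = Subgroup.closure {tU (1 : E), tV γ} := by
      rw [MonoidHom.range_eq_map, ← hab, MonoidHom.map_closure, Set.image_pair, hψa', hψb']
    have : Finite ψ.range := Set.finite_range ψ
    obtain ⟨K₁, ρ, κ, μ, hK₁, hρ, hμadd, hμκ, hκadd, hequiv⟩ :=
      Cfsg.Agent.Lib.Helper9.DicksonMod.dickson_core_mod p hp2 γ hγ ψ.range hL
    have hψM : Function.Surjective (ψ.subgroupComap K₁) := by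
      rintro ⟨y, hy⟩
      obtain ⟨x, rfl⟩ := hK₁ hy
      exact ⟨⟨x, hy⟩, rfl⟩
    have hθ0 : θ 0 = 0 := by
      have h := hθadd 0 M₁.zero_mem 0 M₁.zero_mem
      rw [add_zero] at h
      have h2 : θ 0 + 0 = θ 0 + θ 0 := by rw [add_zero]; exact h
      exact (add_left_cancel h2).symm
    have hκ0 : κ 0 = 0 := by
      have h := hκadd 0 0
      rw [add_zero] at h
      have h2 : κ 0 + 0 = κ 0 + κ 0 := by rw [add_zero]; exact h
      exact (add_left_cancel h2).symm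
    have hθneg : ∀ w ∈ M₁, θ (-w) = -θ w := by
      intro w hw
      have h := hθadd w hw (-w) (M₁.neg_mem hw)
      rw [add_neg_cancel, hθ0] at h
      exact (neg_eq_of_add_eq_zero_right h.symm).symm
    have hκneg : ∀ c, κ (-c) = -κ c := by
      intro c
      have h := hκadd c (-c)
      rw [add_neg_cancel, hκ0] at h
      exact (neg_eq_of_add_eq_zero_right h.symm).symm
    -- the subgroup of `V` lying over the `𝔽_p`-plane
    let V₀ : Subgroup G :=
      { carrier := {v | ∃ hv : v ∈ V, toAV V hVc ⟨v, hv⟩ ∈ M₁ ∧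
          θ (toAV V hVc ⟨v, hv⟩) ∈ Set.range κ}
        mul_mem' := by
          rintro x y ⟨hx, hxM, c, hc⟩ ⟨hy, hyM, c', hc'⟩
          refine ⟨V.mul_mem hx hy, ?_, ?_⟩
          · exact M₁.add_mem hxM hyM
          · refine ⟨c + c', ?_⟩
            rw [hκadd, hc, hc']
            exact (hθadd _ hxM _ hyM).symm
        one_mem' := ⟨V.one_mem, M₁.zero_mem, 0, hκ0.trans hθ0.symm⟩
        inv_mem' := by
          rintro x ⟨hx, hxM, c, hc⟩
          refine ⟨V.inv_mem hx, M₁.neg_mem hxM, -c, ?_⟩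
          rw [hκneg, hc]
          exact (hθneg _ hxM).symm }
    have hV₀V : ∀ v, v ∈ V₀ → v ∈ V := fun v hv => hv.1
    have hV₀M : ∀ v (hv : v ∈ V₀), toAV V hVc ⟨v, hV₀V v hv⟩ ∈ M₁ ∧
        θ (toAV V hVc ⟨v, hV₀V v hv⟩) ∈ Set.range κ := fun v hv => hv.2
    have hV₀mk : ∀ v (hv : v ∈ V), toAV V hVc ⟨v, hv⟩ ∈ M₁ →
        θ (toAV V hVc ⟨v, hv⟩) ∈ Set.range κ → v ∈ V₀ := fun v hv h1 h2 => ⟨hv, h1, h2⟩
    clear_value V₀
    -- the acting group
    let ι : ↥(K₁.comap ψ) →* G :=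
      (Subgroup.closure ({a, b} : Set G)).subtype.comp (K₁.comap ψ).subtype
    have hιN : ∀ m : ↥(K₁.comap ψ), ι m ∈ Subgroup.normalizer (V : Set G) := fun m => hKN m.1.2
    have hιV : ∀ (m : ↥(K₁.comap ψ)) (v : G), v ∈ V → ι m * v * (ι m)⁻¹ ∈ V := fun m v hv =>
      (Subgroup.mem_normalizer_iff.mp (hιN m) v).mp hv
    have hφι : ∀ (m : ↥(K₁.comap ψ)) (v : G) (hv : v ∈ V),
        toAV V hVc ⟨ι m * v * (ι m)⁻¹, hιV m v hv⟩ = φ m.1 (toAV V hVc ⟨v, hv⟩) := fun _ _ _ => rfl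
    have hact : ∀ (m : ↥(K₁.comap ψ)) (v : G) (hv : v ∈ V₀) (c : Fin 2 → ZMod p),
        κ c = θ (toAV V hVc ⟨v, hV₀V v hv⟩) →
        toAV V hVc ⟨ι m * v * (ι m)⁻¹, hιV m v (hV₀V v hv)⟩ ∈ M₁ ∧
        θ (toAV V hVc ⟨ι m * v * (ι m)⁻¹, hιV m v (hV₀V v hv)⟩) =
          κ ((ρ ⟨ψ m.1, m.2⟩ : Matrix (Fin 2) (Fin 2) (ZMod p)).mulVec c) := by
      intro m v hv c hc
      obtain ⟨h1, h2⟩ := hinv m.1 _ (hV₀M v hv).1
      rw [hφι m v (hV₀V v hv)]
      refine ⟨h1, ?_⟩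
      rw [h2, ← hc]
      exact hequiv ⟨ψ m.1, m.2⟩ c
    have hnorm : ∀ (m : ↥(K₁.comap ψ)), ∀ v ∈ V₀, ι m * v * (ι m)⁻¹ ∈ V₀ := by
      intro m v hv
      obtain ⟨c, hc⟩ := (hV₀M v hv).2
      obtain ⟨h1, h2⟩ := hact m v hv c hc
      exact hV₀mk _ (hιV m v (hV₀V v hv)) h1 ⟨_, h2.symm⟩
    refine onto_qd hp2 V₀ ?_ (fun v hv => hVp v (hV₀V v hv)) ι hnorm
      (ρ.comp (ψ.subgroupComap K₁)) (hρ.comp hψM)
      (fun v => μ (θ (toAV V hVc ⟨v.1, hV₀V v.1 v.2⟩))) ?_ ?_ ?_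
    · intro x hx y hy
      exact congrArg Subtype.val (hVc.is_comm.comm ⟨x, hV₀V x hx⟩ ⟨y, hV₀V y hy⟩)
    · intro x y
      show μ (θ (toAV V hVc ⟨x.1, hV₀V x.1 x.2⟩ + toAV V hVc ⟨y.1, hV₀V y.1 y.2⟩)) = _
      rw [hθadd _ (hV₀M x.1 x.2).1 _ (hV₀M y.1 y.2).1, hμadd]
    · intro c
      obtain ⟨w, hw, hwc⟩ := hθs (κ c)
      have hmem : ((ofAV V hVc w : ↥V) : G) ∈ V₀ :=
        hV₀mk _ (ofAV V hVc w).2 hw ⟨c, hwc.symm⟩
      refine ⟨⟨_, hmem⟩, ?_⟩
      show μ (θ w) = c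
      rw [hwc, hμκ]
    · intro m v
      obtain ⟨c, hc⟩ := (hV₀M v.1 v.2).2
      obtain ⟨h1, h2⟩ := hact m v.1 v.2 c hc
      show μ (θ (toAV V hVc ⟨ι m * v.1 * (ι m)⁻¹, _⟩)) =
        (ρ ⟨ψ m.1, m.2⟩ : Matrix (Fin 2) (Fin 2) (ZMod p)).mulVec
          (μ (θ (toAV V hVc ⟨v.1, hV₀V v.1 v.2⟩)))
      rw [h2, ← hc, hμκ, hμκ]

/-- **`p`-stability on a normal `p`-subgroup, or `Qd(p)`.** -/
theorem pstab_normal_qd {H : Type*} [Group H] [Finite H] (p : ℕ) [Fact p.Prime] (hp : p ≠ 2)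
    (P : Subgroup H) [hPn : P.Normal] (hP : IsPGroup p P) (a : H) (hq : Quad P a) :
    (∃ D : Subgroup H, D.Normal ∧ Subgroup.centralizer (P : Set H) ≤ D ∧ a ∈ D ∧
      ∀ d ∈ D, ∃ j : ℕ, d ^ p ^ j ∈ Subgroup.centralizer (P : Set H)) ∨ Onto ↥(Cfsg.qd p) H := by
  have hfr1 : ∀ k ∈ P, k ^ p ∈ (frattini ↥P).map P.subtype := by
    intro k hk
    refine ⟨⟨k, hk⟩ ^ p, Cfsg.Agent.Lib.Helper9.PStab.mem_frattini_of _ (fun M hM => ?_), rfl⟩
    exact (Cfsg.Agent.Lib.Helper22.Regular.pgroup_coatom hP M hM).1 _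
  have hfr2 : ∀ k ∈ P, ∀ l ∈ P, k * l * k⁻¹ * l⁻¹ ∈ (frattini ↥P).map P.subtype := by
    intro k hk l hl
    refine ⟨⟨k, hk⟩ * ⟨l, hl⟩ * ⟨k, hk⟩⁻¹ * ⟨l, hl⟩⁻¹, Cfsg.Agent.Lib.Helper9.PStab.mem_frattini_of _ (fun M hM => ?_), rfl⟩
    exact (Cfsg.Agent.Lib.Helper22.Regular.pgroup_coatom hP M hM).2 _ _
  have hΦn : ((frattini ↥P).map P.subtype).Normal := inferInstance
  obtain ⟨π, hπ⟩ : ∃ π : H →* H ⧸ (frattini ↥P).map P.subtype,
      π = QuotientGroup.mk' ((frattini ↥P).map P.subtype) := ⟨_, rfl⟩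
  have hπs : Function.Surjective π := by
    rw [hπ]
    exact QuotientGroup.mk'_surjective _
  have hπ1 : ∀ x : H, π x = 1 ↔ x ∈ (frattini ↥P).map P.subtype := by
    intro x
    rw [hπ, QuotientGroup.mk'_apply, QuotientGroup.eq_one_iff]
  obtain ⟨V, hV⟩ : ∃ V : Subgroup (H ⧸ (frattini ↥P).map P.subtype), V = P.map π := ⟨_, rfl⟩
  have hVn : V.Normal := by
    rw [hV]
    exact hPn.map π hπs
  have hVc : IsMulCommutative V := by
    refine ⟨⟨fun x y => Subtype.ext ?_⟩⟩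
    have hx : (x : H ⧸ (frattini ↥P).map P.subtype) ∈ P.map π := by
      rw [← hV]
      exact x.2
    have hy : (y : H ⧸ (frattini ↥P).map P.subtype) ∈ P.map π := by
      rw [← hV]
      exact y.2
    obtain ⟨k, hk, hkx⟩ := hx
    obtain ⟨l, hl, hly⟩ := hy
    show (x : H ⧸ (frattini ↥P).map P.subtype) * y = y * x
    rw [← hkx, ← hly, ← map_mul, ← map_mul]
    have h1 : π (k * l * k⁻¹ * l⁻¹) = 1 := (hπ1 _).mpr (hfr2 k hk l hl)
    rw [map_mul, map_mul, map_mul, map_inv, map_inv] at h1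
    rw [map_mul, map_mul]
    calc π k * π l = (π k * π l * (π k)⁻¹ * (π l)⁻¹) * (π l * π k) := by group
      _ = π l * π k := by rw [h1, one_mul]
  have hVp : ∀ v ∈ V, v ^ p = 1 := by
    intro v hv
    rw [hV] at hv
    obtain ⟨k, hk, rfl⟩ := hv
    rw [← map_pow]
    exact (hπ1 _).mpr (hfr1 k hk)
  have hqV : Quad V (π a) := by
    intro v hv
    rw [hV] at hv
    obtain ⟨k, hk, rfl⟩ := hv
    simp only [← map_mul, ← map_inv]
    rw [hq k hk]
  have hN : ∀ x : H ⧸ (frattini ↥P).map P.subtype,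
      x ∈ Subgroup.normalizer (V : Set (H ⧸ (frattini ↥P).map P.subtype)) := by
    intro x
    rw [Subgroup.normalizer_eq_top_iff.mpr hVn]
    exact Subgroup.mem_top x
  by_cases hpair : ∀ g : H ⧸ (frattini ↥P).map P.subtype,
      ∀ k ∈ Subgroup.closure ({π a, g * π a * g⁻¹} : Set (H ⧸ (frattini ↥P).map P.subtype)),
      ∃ j : ℕ, k ^ p ^ j ∈ Subgroup.centralizer (V : Set (H ⧸ (frattini ↥P).map P.subtype))
  · left
    obtain ⟨D', -, hHD, hCD, haD, hDp⟩ := Cfsg.Agent.Lib.Lead.QuadNS2.stable_bridge_gen p V ⊤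
      (fun x _ => hN x) (π a) (Subgroup.mem_top _) (fun g _ => hpair g)
    have hD'n : D'.Normal := Subgroup.normalizer_eq_top_iff.mp (top_le_iff.mp hHD)
    refine ⟨D'.comap π, hD'n.comap π, ?_, haD, ?_⟩
    · intro x hx
      apply hCD
      rw [Subgroup.mem_inf]
      refine ⟨Subgroup.mem_top _, ?_⟩
      rw [Subgroup.mem_centralizer_iff]
      intro v hv
      rw [SetLike.mem_coe, hV] at hv
      obtain ⟨k, hk, rfl⟩ := hv
      rw [← map_mul, ← map_mul, (Subgroup.mem_centralizer_iff.mp hx) k hk]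
    · intro d hd
      obtain ⟨j, hj⟩ := hDp (π d) hd
      have hy : ∀ k ∈ P, d ^ p ^ j * k * (d ^ p ^ j)⁻¹ * k⁻¹ ∈ (frattini ↥P).map P.subtype := by
        intro k hk
        rw [← hπ1]
        have h1 := (Subgroup.mem_centralizer_iff.mp hj) (π k) (by
          rw [SetLike.mem_coe, hV]
          exact ⟨k, hk, rfl⟩)
        rw [map_mul, map_mul, map_mul, map_inv, map_inv, map_pow, ← h1]
        group
      obtain ⟨i, hi⟩ := Cfsg.Agent.Lib.Helper9.PStab.burnside_cent p P hP (d ^ p ^ j) hy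
      refine ⟨j + i, ?_⟩
      rw [pow_add, pow_mul]
      exact hi
  · right
    push_neg at hpair
    obtain ⟨g, k, hk, hk'⟩ := hpair
    rcases pair_bridge_qd p hp V hVc hVp (π a) (g * π a * g⁻¹)
      (hN _) (hN _) hqV (quad_conj V (π a) g (hN g) hqV) with h | h
    · exfalso
      obtain ⟨j, hj⟩ := h k hk
      exact hk' j hj
    · exact Onto.of_surjective π hπs h

/-- **Normalizer form of `p`-stability, or `Qd(p)`.** -/
theorem pstab_normalizer_qd {X : Type*} [Group X] [Finite X] (p : ℕ) [Fact p.Prime] (hp : p ≠ 2)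
    (P : Subgroup X) (hP : IsPGroup p P) (g : X) (hg : g ∈ Subgroup.normalizer (P : Set X))
    (hquad : ⁅⁅P, Subgroup.zpowers g⁆, Subgroup.zpowers g⁆ = ⊥)
    (hfree : ¬ Onto ↥(Cfsg.qd p) ↥(Subgroup.normalizer (P : Set X))) :
    (QuotientGroup.mk (s := (Subgroup.centralizer (P : Set X)).subgroupOf
        (Subgroup.normalizer (P : Set X))) (⟨g, hg⟩ : ↥(Subgroup.normalizer (P : Set X)))) ∈
      pCore p (↥(Subgroup.normalizer (P : Set X)) ⧸
        (Subgroup.centralizer (P : Set X)).subgroupOf (Subgroup.normalizer (P : Set X))) := by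
  haveI hPn : (P.subgroupOf (Subgroup.normalizer (P : Set X))).Normal :=
    Subgroup.normal_in_normalizer
  have hPp : IsPGroup p (P.subgroupOf (Subgroup.normalizer (P : Set X))) := hP.comap_subtype
  have hqg : Quad P g := quad_of_comm P g hquad
  have hq' : Quad (P.subgroupOf (Subgroup.normalizer (P : Set X))) ⟨g, hg⟩ := by
    intro v hv
    rw [Subgroup.mem_subgroupOf] at hv
    apply Subtype.ext
    exact hqg v hv
  rcases pstab_normal_qd p hp _ hPp ⟨g, hg⟩ hq' with ⟨D, hDn, -, hgD, hD⟩ | h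
  · have hDmap : IsPGroup p (D.map (QuotientGroup.mk'
        ((Subgroup.centralizer (P : Set X)).subgroupOf (Subgroup.normalizer (P : Set X))))) := by
      rintro ⟨_, d, hd, rfl⟩
      obtain ⟨n, hn⟩ := hD d hd
      refine ⟨n, ?_⟩
      apply Subtype.ext
      simp only [Subgroup.coe_pow, Subgroup.coe_one]
      rw [← map_pow, QuotientGroup.mk'_apply, QuotientGroup.eq_one_iff, Subgroup.mem_subgroupOf,
        Subgroup.mem_centralizer_iff]
      rw [Subgroup.mem_centralizer_iff] at hn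
      intro u hu
      have h1 := hn ⟨u, Subgroup.le_normalizer hu⟩ (Subgroup.mem_subgroupOf.2 hu)
      exact congrArg Subtype.val h1
    have hle := Cfsg.Agent.Lib.Helper9.le_pCore
      (hDn.map _ (QuotientGroup.mk'_surjective _)) hDmap
    apply hle
    exact Subgroup.mem_map_of_mem _ hgD
  · exact absurd h hfree


/-- a finite group none of whose subgroups maps onto `Qd(p)` (`p` odd) is `p`-stable -/
theorem pstable_of_onto_free {X : Type*} [Group X] [Finite X] {p : ℕ} [Fact p.Prime]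
    (hp : p ≠ 2) (h : ¬ Onto ↥(Cfsg.qd p) X) : Cfsg.IsNormalizerPStable p X := by
  intro P hP g hg hquad
  exact pstab_normalizer_qd p hp P hP g hg hquad
    (fun hS => h (Onto.of_injective (Subgroup.subtype _) (Subgroup.subtype_injective _) hS))

/-- **`Qd(p)`-free groups are `p`-stable** (`p` odd). -/
theorem pstable_of_qd_free {G : Type*} [Group G] [Finite G] {p : ℕ} [Fact p.Prime]
    (hp : p ≠ 2) (h : ¬ Cfsg.Involves ↥(Cfsg.qd p) G) : Cfsg.IsNormalizerPStable p G :=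
  pstable_of_onto_free hp (fun hS => h hS.involves)

/-- **every section of a `Qd(p)`-free group is `p`-stable** (`p` odd). -/
theorem sections_pstable_of_qd_free {G : Type*} [Group G] [Finite G] {p : ℕ} [Fact p.Prime]
    (hp : p ≠ 2) (h : ¬ Cfsg.Involves ↥(Cfsg.qd p) G) :
    ∀ (K R : Subgroup G) [hR : (R.subgroupOf K).Normal],
      Cfsg.IsNormalizerPStable p (↥K ⧸ R.subgroupOf K) := by
  intro K R hR
  apply pstable_of_onto_free hp
  intro hS
  apply h
  exact (Onto.of_injective K.subtype K.subtype_injective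
    (Onto.of_surjective (QuotientGroup.mk' _) (QuotientGroup.mk'_surjective _) hS)).involves

/-- subgroups of `Qd(p)`-free groups are `Qd(p)`-free -/
theorem qd_free_subgroup {G : Type*} [Group G] {p : ℕ} (h : ¬ Cfsg.Involves ↥(Cfsg.qd p) G)
    (K : Subgroup G) : ¬ Cfsg.Involves ↥(Cfsg.qd p) ↥K := fun hS =>
  h (Onto.of_injective K.subtype K.subtype_injective (Onto.of_involves hS)).involves

/-- quotients of `Qd(p)`-free groups are `Qd(p)`-free -/
theorem qd_free_quotient {G G' : Type*} [Group G] [Group G'] {p : ℕ}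
    (h : ¬ Cfsg.Involves ↥(Cfsg.qd p) G) (f : G →* G') (hf : Function.Surjective f) :
    ¬ Cfsg.Involves ↥(Cfsg.qd p) G' := fun hS =>
  h (Onto.of_surjective f hf (Onto.of_involves hS)).involves

end Cfsg.Agent.Lib.Helper9.QdStab
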